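import Groth.Agent.FibDepthLib.AtPrime
import Groth.Agent.QGorLib.Reflexive
import Groth.Agent.FibreDepth.BaseChange
import Groth.Agent.FlatDepth.Fibres

/-! Depth along an ideal of the fibres after base change. -/

set_option autoImplicit false
set_option backward.isDefEq.respectTransparency false
set_option backward.isDefEq.respectTransparency.types false
set_option linter.style.haveILetI false
set_option linter.unusedSectionVars false

universe u

open IsLocalRing TensorProduct RingTheory.Sequence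

namespace Groth.Agent.FibDepthLib

section Depth

variable {R : Type u} [CommRing R] [IsNoetherianRing R]

theorem le_idealDepth_map_of_flat {C : Type u} [CommRing C] [Algebra R C] [Module.Flat R C] [IsNoetherianRing C]
    {I : Ideal R} (k : ℕ) (h : (k : ℕ∞) ≤ LocCoh.idealDepth I R) :
    (k : ℕ∞) ≤ LocCoh.idealDepth (I.map (algebraMap R C)) C := by
  by_cases hC : I.map (algebraMap R C) • (⊤ : Submodule C C) = ⊤
  · rw [LocCoh.idealDepth, if_pos hC]; exact le_top
  have hI : I • (⊤ : Submodule R R) ≠ ⊤ := fun hI => hC (by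
    rw [smul_eq_mul, Ideal.mul_top] at hI ⊢
    rw [hI, Ideal.map_top])
  rw [Depth.le_idealDepth_iff hI] at h
  obtain ⟨rs, hl, hm, hw⟩ := h
  rw [Depth.le_idealDepth_iff hC]
  refine ⟨rs.map (algebraMap R C), by rw [List.length_map, hl], fun r hr => ?_,
    hw.of_flat_of_isBaseChange (f := Algebra.linearMap R C) (IsBaseChange.linearMap R C)⟩
  obtain ⟨a, ha, rfl⟩ := List.mem_map.1 hr
  exact Ideal.mem_map_of_mem _ (hm a ha)

theorem le_idealDepth_of_flat {M : Type u} [AddCommGroup M] [Module R M] [Module.Finite R M] [Module.Flat R M]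
    {I : Ideal R} (k : ℕ) (h : (k : ℕ∞) ≤ LocCoh.idealDepth I R) : (k : ℕ∞) ≤ LocCoh.idealDepth I M := by
  by_cases hM : I • (⊤ : Submodule R M) = ⊤
  · rw [LocCoh.idealDepth, if_pos hM]; exact le_top
  have hI : I • (⊤ : Submodule R R) ≠ ⊤ := fun hI => hM (by
    rw [smul_eq_mul, Ideal.mul_top] at hI
    rw [hI, Submodule.top_smul])
  rw [Depth.le_idealDepth_iff hI] at h
  obtain ⟨rs, hl, hm, hw⟩ := h
  rw [Depth.le_idealDepth_iff hM]
  exact ⟨rs, hl, hm, ((TensorProduct.rid R M).isWeaklyRegular_congr rs).mp (hw.isWeaklyRegular_lTensor (M₂ := M))⟩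

theorem le_idealDepth_mono {M : Type u} [AddCommGroup M] [Module R M] [Module.Finite R M]
    {I K : Ideal R} (hIK : I ≤ K) (k : ℕ) (h : (k : ℕ∞) ≤ LocCoh.idealDepth I M) :
    (k : ℕ∞) ≤ LocCoh.idealDepth K M := by
  by_cases hK : K • (⊤ : Submodule R M) = ⊤
  · rw [LocCoh.idealDepth, if_pos hK]; exact le_top
  have hI : I • (⊤ : Submodule R M) ≠ ⊤ := fun hI =>
    hK (top_le_iff.mp (le_trans hI.ge (Submodule.smul_mono_left hIK)))
  rw [Depth.le_idealDepth_iff hI] at h
  obtain ⟨rs, hl, hm, hw⟩ := h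
  rw [Depth.le_idealDepth_iff hK]
  exact ⟨rs, hl, fun r hr => hIK (hm r hr), hw⟩

theorem idealDepth_top_ideal {M : Type u} [AddCommGroup M] [Module R M] :
    LocCoh.idealDepth (⊤ : Ideal R) M = ⊤ := by
  rw [LocCoh.idealDepth, if_pos (Submodule.top_smul _)]

end Depth

section Fibre

variable {A B : Type u} [CommRing A] [CommRing B] [IsNoetherianRing A] [IsNoetherianRing B] [Algebra A B] (J : Ideal B)

theorem le_idealDepth_fiber (k : ℕ)
    (hZ : ∀ q : PrimeSpectrum B, J ≤ q.asIdeal → (k : ℕ∞) ≤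
      LocCoh.idealDepth (q.asIdeal.map (algebraMap B (EGA4.FibLocRing A B q.asIdeal))) (EGA4.FibLocRing A B q.asIdeal))
    (p : Ideal A) [p.IsPrime] :
    (k : ℕ∞) ≤ LocCoh.idealDepth (J.map (Algebra.TensorProduct.includeRight : B →ₐ[A] p.Fiber B).toRingHom) (p.Fiber B) := by
  haveI := FlatDepth.isNoetherianRing_fiber A B p
  rw [QGorLib.le_idealDepth_iff_forall]
  intro Q hQ
  rw [QGorLib.depth_localizedSelf_eq]
  let ι : B →+* p.Fiber B := (Algebra.TensorProduct.includeRight : B →ₐ[A] p.Fiber B).toRingHom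
  let r : Ideal B := Q.asIdeal.comap ι
  haveI hr : r.IsPrime := Ideal.IsPrime.comap _
  have hJ : J ≤ r := Ideal.map_le_iff_le_comap.mp hQ
  have hp : p = r.comap (algebraMap A B) := by
    rw [Ideal.over_def Q.asIdeal p, Ideal.under_def, Ideal.comap_comap]
    congr 1
    exact (Algebra.TensorProduct.includeRight : B →ₐ[A] p.Fiber B).comp_algebraMap.symm
  let S := Localization.AtPrime r
  let e : Localization.AtPrime Q.asIdeal ≃+* EGA4.FibLocRing A B r :=
    (Ideal.Fiber.algEquivAux₂ p Q.asIdeal).toRingEquiv.trans (Ideal.quotEquivOfEq (by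
      rw [Ideal.map_map, ← IsScalarTower.algebraMap_eq]
      exact congrArg (Ideal.map _) hp))
  haveI : IsLocalRing (EGA4.FibLocRing A B r) := e.isLocalRing
  rw [← FlatDepth.depth_eq_of_ringEquiv e]
  have hmax : r.map (algebraMap B (EGA4.FibLocRing A B r)) = maximalIdeal (EGA4.FibLocRing A B r) := by
    rw [IsScalarTower.algebraMap_eq B S (EGA4.FibLocRing A B r), ← Ideal.map_map,
      Localization.AtPrime.map_eq_maximalIdeal, Ideal.Quotient.algebraMap_eq]
    haveI : ((maximalIdeal S).map (Ideal.Quotient.mk (Ideal.map (algebraMap A S) (r.comap (algebraMap A B))))).IsMaximal := by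
      refine (Ideal.map_eq_top_or_isMaximal_of_surjective _ Ideal.Quotient.mk_surjective
        (maximalIdeal.isMaximal S)).resolve_left fun ht => ?_
      have h1 := congrArg (Ideal.comap (Ideal.Quotient.mk _)) ht
      rw [Ideal.comap_map_of_surjective _ Ideal.Quotient.mk_surjective, Ideal.comap_top] at h1
      refine (maximalIdeal.isMaximal S).ne_top (top_le_iff.mp (h1.ge.trans (sup_le le_rfl ?_)))
      exact (Ideal.mk_ker.trans_le (Ideal.map_le_iff_le_comap.mpr fun a ha => by
        show algebraMap A S a ∈ maximalIdeal S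
        rw [IsScalarTower.algebraMap_apply A B S, ← Localization.AtPrime.map_eq_maximalIdeal]
        exact Ideal.mem_map_of_mem _ ha))
    exact IsLocalRing.eq_maximalIdeal this
  have := hZ ⟨r, hr⟩ hJ
  rw [hmax] at this
  exact this

variable {A' B' : Type u} [CommRing A'] [CommRing B'] [IsNoetherianRing A'] [IsNoetherianRing B']
    [Algebra A A'] [Algebra B B'] [Algebra A' B'] [Algebra A B'] [IsScalarTower A B B'] [IsScalarTower A A' B']
    [Algebra.IsPushout A B A' B']

section
attribute [local instance] Algebra.TensorProduct.rightAlgebra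

variable (A A') in
theorem le_idealDepth_fibLocRing (k : ℕ)
    (hZ : ∀ q : PrimeSpectrum B, J ≤ q.asIdeal → (k : ℕ∞) ≤
      LocCoh.idealDepth (q.asIdeal.map (algebraMap B (EGA4.FibLocRing A B q.asIdeal))) (EGA4.FibLocRing A B q.asIdeal))
    (q' : PrimeSpectrum B') :
    (k : ℕ∞) ≤ LocCoh.idealDepth ((J.map (algebraMap B B')).map (algebraMap B' (EGA4.FibLocRing A' B' q'.asIdeal)))
      (EGA4.FibLocRing A' B' q'.asIdeal) := by
  haveI : Algebra.IsPushout A A' B B' := Algebra.IsPushout.symm inferInstance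
  let q : PrimeSpectrum B := ⟨q'.asIdeal.under B, inferInstance⟩
  let p := FibreDepth.basePrime A q
  haveI := FlatDepth.isNoetherianRing_fiber A B p
  obtain ⟨ψ, hflat, -, hψ⟩ := FibreDepth.exists_flat_fibRing_hom (A := A) (A' := A') q' q rfl
  obtain ⟨φ, hφ, hker⟩ := FibreDepth.exists_surjective_fibRing (A := A') q'
  let C := EGA4.FibLocRing A' B' q'.asIdeal
  let e : FibreDepth.FibRing A' q' ≃+* C :=
    (RingHom.quotientKerEquivOfSurjective hφ).symm.trans (Ideal.quotEquivOfEq hker)
  let χ : p.Fiber B →+* C :=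
    e.toRingHom.comp (ψ.comp (algebraMap (p.Fiber B) (FibreDepth.FibRing A q)))
  have hχflat : χ.Flat :=
    (RingHom.Flat.comp (RingHom.flat_algebraMap_iff.2 (IsLocalization.flat (FibreDepth.FibRing A q)
      (FibreDepth.point A q).asIdeal.primeCompl)) hflat).comp (RingHom.Flat.of_bijective e.bijective)
  have hχ : ∀ b : B, χ ((Algebra.TensorProduct.includeRight : B →ₐ[A] p.Fiber B).toRingHom b) =
      algebraMap B' C (algebraMap B B' b) := fun b => by
    show e (ψ (algebraMap B (FibreDepth.FibRing A q) b)) = _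
    rw [hψ, ← φ.commutes]
    show (Ideal.quotEquivOfEq hker) ((RingHom.quotientKerEquivOfSurjective hφ).symm
      (φ.toRingHom (algebraMap B' (Localization.AtPrime q'.asIdeal) (algebraMap B B' b)))) = _
    rw [RingHom.quotientKerEquivOfSurjective_symm_apply, Ideal.quotEquivOfEq_mk]
    rfl
  letI : Algebra (p.Fiber B) C := χ.toAlgebra
  haveI : Module.Flat (p.Fiber B) C := hχflat
  have h := le_idealDepth_map_of_flat (C := C) k (le_idealDepth_fiber J k hZ p)
  rw [Ideal.map_map] at h ⊢
  have hc : (algebraMap (p.Fiber B) C).comp (Algebra.TensorProduct.includeRight : B →ₐ[A] p.Fiber B).toRingHom =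
      (algebraMap B' C).comp (algebraMap B B') := RingHom.ext hχ
  rw [hc] at h
  exact h

end

theorem le_idealDepth_fibLocMod_of_projective (q' : PrimeSpectrum B') (K : Ideal (EGA4.FibLocRing A' B' q'.asIdeal))
    (E : Type u) [AddCommGroup E] [Module B' E] [Module.Finite B' E] [Module.Projective B' E] (k : ℕ)
    (h : (k : ℕ∞) ≤ LocCoh.idealDepth K (EGA4.FibLocRing A' B' q'.asIdeal)) :
    (k : ℕ∞) ≤ LocCoh.idealDepth K (EGA4.FibLocMod A' B' q'.asIdeal E) := by
  let S := Localization.AtPrime q'.asIdeal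
  let I : Ideal S := (q'.asIdeal.comap (algebraMap A' B')).map (algebraMap A' S)
  let N := LocalizedModule q'.asIdeal.primeCompl E
  haveI : Module.Finite S N :=
    Module.Finite.of_isLocalizedModule q'.asIdeal.primeCompl (LocalizedModule.mkLinearMap q'.asIdeal.primeCompl E)
  haveI : Module.Flat S N :=
    Module.Flat.of_isLocalizedModule S q'.asIdeal.primeCompl (LocalizedModule.mkLinearMap q'.asIdeal.primeCompl E)
  haveI : Module.Finite (S ⧸ I) (N ⧸ (I • ⊤ : Submodule S N)) := Module.Finite.of_restrictScalars_finite S _ _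
  haveI : Module.Flat (S ⧸ I) (N ⧸ (I • ⊤ : Submodule S N)) :=
    Module.Flat.of_linearEquiv (((TensorProduct.quotTensorEquivQuotSMul N I).symm.extendScalarsOfSurjective
      (Ideal.Quotient.mk_surjective (I := I))))
  exact le_idealDepth_of_flat k h

end Fibre

end Groth.Agent.FibDepthLib
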