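import Groth.Agent.FibDepthLib.FourTerm
import Groth.Agent.FibreDepth.Local

/-! The four term criterion at a prime. -/

set_option autoImplicit false
set_option backward.isDefEq.respectTransparency false
set_option backward.isDefEq.respectTransparency.types false
set_option linter.style.haveILetI false
set_option linter.unusedSectionVars false

universe u

open IsLocalRing TensorProduct

namespace Groth.Agent.FibDepthLib

variable {B : Type u} [CommRing B]

theorem isLocalizedModule_twice (q : Ideal B) [q.IsPrime] (N : Type u) [AddCommGroup N] [Module B N]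
    (Q : Ideal (Localization.AtPrime q)) [Q.IsPrime] :
    IsLocalizedModule (Q.comap (algebraMap B (Localization.AtPrime q))).primeCompl
      ((LocalizedModule.mkLinearMap Q.primeCompl (LocalizedModule q.primeCompl N)).restrictScalars B ∘ₗ
        LocalizedModule.mkLinearMap q.primeCompl N) := by
  let S := Localization.AtPrime q
  let f0 := LocalizedModule.mkLinearMap q.primeCompl N
  let f1 := LocalizedModule.mkLinearMap Q.primeCompl (LocalizedModule q.primeCompl N)
  refine ⟨fun s => ?_, fun y => ?_, fun {x y} hxy => ?_⟩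
  · rw [Module.End.isUnit_iff]
    have h := IsLocalizedModule.map_units f1 (⟨algebraMap B S s.1, s.2⟩ : Q.primeCompl)
    rw [Module.End.isUnit_iff] at h
    convert h using 1
    funext z
    exact (algebraMap_smul S s.1 z).symm
  · obtain ⟨⟨n', t⟩, hnt⟩ := IsLocalizedModule.surj Q.primeCompl f1 y
    obtain ⟨⟨n, s⟩, hns⟩ := IsLocalizedModule.surj q.primeCompl f0 n'
    obtain ⟨⟨b, s'⟩, hbs⟩ := IsLocalization.surj q.primeCompl (t : S)
    have hb : algebraMap B S b ∈ Q.primeCompl := fun h => t.2 (by
      rw [← hbs] at h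
      exact (‹Q.IsPrime›.mem_or_mem h).resolve_right fun h' =>
        ‹Q.IsPrime›.ne_top (Q.eq_top_of_isUnit_mem h' (IsLocalization.map_units S s')))
    have hs : algebraMap B S s.1 ∈ Q.primeCompl := fun h =>
      ‹Q.IsPrime›.ne_top (Q.eq_top_of_isUnit_mem h (IsLocalization.map_units S s))
    refine ⟨⟨(s' : B) • n, ⟨s.1 * b, ?_⟩⟩, ?_⟩
    · show algebraMap B S (s.1 * b) ∉ Q
      rw [map_mul]
      exact fun h => (‹Q.IsPrime›.mem_or_mem h).elim hs hb
    · show (s.1 * b) • y = f1 (f0 ((s' : B) • n))
      rw [Submonoid.smul_def] at hnt hns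
      rw [map_smul, ← hns, ← algebraMap_smul S (s.1 * b) y, ← algebraMap_smul S (s' : B) (s.1 • n'),
        ← algebraMap_smul S s.1 n', smul_smul, map_smul, ← hnt, smul_smul, map_mul, ← hbs]
      congr 1
      ring
  · obtain ⟨t, ht⟩ := IsLocalizedModule.exists_of_eq (S := Q.primeCompl) (f := f1) (show f1 (f0 x) = f1 (f0 y) from hxy)
    obtain ⟨⟨b, s'⟩, hbs⟩ := IsLocalization.surj q.primeCompl (t : S)
    have hb : algebraMap B S b ∈ Q.primeCompl := fun h => t.2 (by
      rw [← hbs] at h
      exact (‹Q.IsPrime›.mem_or_mem h).resolve_right fun h' =>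
        ‹Q.IsPrime›.ne_top (Q.eq_top_of_isUnit_mem h' (IsLocalization.map_units S s')))
    have h2 : f0 (b • x) = f0 (b • y) := by
      rw [map_smul, map_smul, ← algebraMap_smul S b (f0 x), ← algebraMap_smul S b (f0 y), ← hbs, mul_comm, mul_smul,
        mul_smul]
      congr 1
    obtain ⟨s, hs⟩ := IsLocalizedModule.exists_of_eq (S := q.primeCompl) h2
    refine ⟨⟨s.1 * b, fun h => ?_⟩, ?_⟩
    · have h' : algebraMap B S (s.1 * b) ∈ Q := h
      rw [map_mul] at h'
      exact (‹Q.IsPrime›.mem_or_mem h').elim
        (fun h' => ‹Q.IsPrime›.ne_top (Q.eq_top_of_isUnit_mem h' (IsLocalization.map_units S s))) hb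
    · show (s.1 * b) • x = (s.1 * b) • y
      rw [mul_smul, mul_smul]
      exact hs

theorem exact_localized_any {X Y Z : Type u} [AddCommGroup X] [Module B X] [AddCommGroup Y] [Module B Y]
    [AddCommGroup Z] [Module B Z] (a : X →ₗ[B] Y) (b : Y →ₗ[B] Z) (h : Function.Exact a b) (p : PrimeSpectrum B) :
    Function.Exact (LocalizedModule.map p.asIdeal.primeCompl a) (LocalizedModule.map p.asIdeal.primeCompl b) :=
  IsLocalizedModule.map_exact p.asIdeal.primeCompl (LocalizedModule.mkLinearMap _ _)
    (LocalizedModule.mkLinearMap _ _) (LocalizedModule.mkLinearMap _ _) _ _ h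

section

variable {A : Type u} [CommRing A] [Algebra A B] [IsNoetherianRing A] [IsNoetherianRing B] (J : Ideal B)
    {F E0 E1 G : Type u} [AddCommGroup F] [Module B F] [Module A F] [IsScalarTower A B F] [Module.Finite B F]
    [AddCommGroup E0] [Module B E0] [Module A E0] [IsScalarTower A B E0] [Module.Finite B E0] [Module.Flat A E0]
    [AddCommGroup E1] [Module B E1] [Module A E1] [IsScalarTower A B E1] [Module.Finite B E1] [Module.Flat A E1]
    [AddCommGroup G] [Module B G] [Module A G] [IsScalarTower A B G] [Module.Finite B G]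
    (f : F →ₗ[B] E0) (u : E0 →ₗ[B] E1) (v : E1 →ₗ[B] G)
    (hf : Function.Injective f) (hfu : Function.Exact f u) (huv : Function.Exact u v) (hv : Function.Surjective v)

include hf hfu huv hv in
theorem flatAt_F_of_flatAt_G (q : Ideal B) [q.IsPrime] (hG : FlatCA.FlatAt A q G) : FlatCA.FlatAt A q F := by
  have hp : Function.Exact f u.rangeRestrict := fun y => by
    rw [← Subtype.coe_inj]; exact hfu y
  have hι : Function.Exact (LinearMap.range u).subtype v := fun y => by
    rw [Submodule.coe_subtype, Subtype.range_coe]; exact huv y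
  exact flatAt_left f u.rangeRestrict hf hp u.surjective_rangeRestrict q (QGorLib.flat_localizedModule E0 q)
    (flatAt_left _ v Subtype.val_injective hι hv q (QGorLib.flat_localizedModule E1 q) hG)

include hf hfu huv hv in
theorem atPrimeGen (q : PrimeSpectrum B) (K : Ideal (EGA4.FibLocRing A B q.asIdeal)) :
    (2 ≤ LocCoh.idealDepth K (EGA4.FibLocMod A B q.asIdeal E0) → 1 ≤ LocCoh.idealDepth K (EGA4.FibLocMod A B q.asIdeal E1) → FlatCA.FlatAt A q.asIdeal G → 2 ≤ LocCoh.idealDepth K (EGA4.FibLocMod A B q.asIdeal F)) ∧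
    (2 ≤ LocCoh.idealDepth (q.asIdeal.map (algebraMap B (EGA4.FibLocRing A B q.asIdeal))) (EGA4.FibLocMod A B q.asIdeal E0) → 1 ≤ LocCoh.idealDepth (q.asIdeal.map (algebraMap B (EGA4.FibLocRing A B q.asIdeal))) (EGA4.FibLocMod A B q.asIdeal E1) → 2 ≤ LocCoh.idealDepth (q.asIdeal.map (algebraMap B (EGA4.FibLocRing A B q.asIdeal))) (EGA4.FibLocMod A B q.asIdeal F) →
      (∀ q' : PrimeSpectrum B, q'.asIdeal < q.asIdeal → FlatCA.FlatAt A q'.asIdeal G) → FlatCA.FlatAt A q.asIdeal G) := by
  let p : Ideal A := q.asIdeal.comap (algebraMap A B)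
  let R := Localization.AtPrime p
  let S := Localization.AtPrime q.asIdeal
  let φ : R →+* S := Localization.localRingHom p q.asIdeal (algebraMap A B) rfl
  letI : Algebra R S := φ.toAlgebra
  haveI : IsLocalHom (algebraMap R S) := Localization.isLocalHom_localRingHom p q.asIdeal (algebraMap A B) rfl
  haveI : IsScalarTower A R S := IsScalarTower.of_algebraMap_eq fun a => by
    show algebraMap A S a = φ (algebraMap A R a)
    rw [Localization.localRingHom_to_map, ← IsScalarTower.algebraMap_apply]
  letI : Module R (LocalizedModule q.asIdeal.primeCompl F) := Module.compHom _ φ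
  letI : Module R (LocalizedModule q.asIdeal.primeCompl E0) := Module.compHom _ φ
  letI : Module R (LocalizedModule q.asIdeal.primeCompl E1) := Module.compHom _ φ
  letI : Module R (LocalizedModule q.asIdeal.primeCompl G) := Module.compHom _ φ
  haveI : IsScalarTower R S (LocalizedModule q.asIdeal.primeCompl F) := IsScalarTower.of_algebraMap_smul fun _ _ => rfl
  haveI : IsScalarTower R S (LocalizedModule q.asIdeal.primeCompl E0) := IsScalarTower.of_algebraMap_smul fun _ _ => rfl
  haveI : IsScalarTower R S (LocalizedModule q.asIdeal.primeCompl E1) := IsScalarTower.of_algebraMap_smul fun _ _ => rfl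
  haveI : IsScalarTower R S (LocalizedModule q.asIdeal.primeCompl G) := IsScalarTower.of_algebraMap_smul fun _ _ => rfl
  haveI hAR : ∀ (N : Type u) [AddCommGroup N] [Module B N] [Module A N] [IsScalarTower A B N],
      letI : Module R (LocalizedModule q.asIdeal.primeCompl N) := Module.compHom _ φ
      IsScalarTower A R (LocalizedModule q.asIdeal.primeCompl N) := fun N _ _ _ _ => by
    letI : Module R (LocalizedModule q.asIdeal.primeCompl N) := Module.compHom _ φ
    exact IsScalarTower.of_algebraMap_smul fun a n => by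
      show φ (algebraMap A R a) • n = a • n
      rw [Localization.localRingHom_to_map, algebraMap_smul, algebraMap_smul]
  haveI := hAR E0
  haveI := hAR E1
  haveI := hAR F
  haveI := hAR G
  haveI : Module.Flat R (LocalizedModule q.asIdeal.primeCompl E0) :=
    (Module.flat_iff_of_isLocalization R p.primeCompl _).mpr (QGorLib.flat_localizedModule E0 q.asIdeal)
  haveI : Module.Flat R (LocalizedModule q.asIdeal.primeCompl E1) :=
    (Module.flat_iff_of_isLocalization R p.primeCompl _).mpr (QGorLib.flat_localizedModule E1 q.asIdeal)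
  haveI : Module.Finite S (LocalizedModule q.asIdeal.primeCompl E0) :=
    Module.Finite.of_isLocalizedModule q.asIdeal.primeCompl (LocalizedModule.mkLinearMap q.asIdeal.primeCompl E0)
  haveI : Module.Finite S (LocalizedModule q.asIdeal.primeCompl E1) :=
    Module.Finite.of_isLocalizedModule q.asIdeal.primeCompl (LocalizedModule.mkLinearMap q.asIdeal.primeCompl E1)
  haveI : Module.Finite S (LocalizedModule q.asIdeal.primeCompl F) :=
    Module.Finite.of_isLocalizedModule q.asIdeal.primeCompl (LocalizedModule.mkLinearMap q.asIdeal.primeCompl F)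
  haveI : Module.Finite S (LocalizedModule q.asIdeal.primeCompl G) :=
    Module.Finite.of_isLocalizedModule q.asIdeal.primeCompl (LocalizedModule.mkLinearMap q.asIdeal.primeCompl G)
  have hI : p.map (algebraMap A S) = (maximalIdeal R).map (algebraMap R S) := by
    rw [IsScalarTower.algebraMap_eq A R S, ← Ideal.map_map, Localization.AtPrime.map_eq_maximalIdeal]
  have hq : q.asIdeal.map (algebraMap B (EGA4.FibLocRing A B q.asIdeal)) =
      (maximalIdeal S).map (Ideal.Quotient.mk (p.map (algebraMap A S))) := by
    rw [IsScalarTower.algebraMap_eq B S (EGA4.FibLocRing A B q.asIdeal), ← Ideal.map_map,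
      Localization.AtPrime.map_eq_maximalIdeal]
    rfl
  have hd : ∀ (N : Type u) [AddCommGroup N] [Module B N],
      LocCoh.idealDepth (q.asIdeal.map (algebraMap B (EGA4.FibLocRing A B q.asIdeal))) (EGA4.FibLocMod A B q.asIdeal N) =
      LocCoh.idealDepth (maximalIdeal S) (EGA4.FibMod R S (LocalizedModule q.asIdeal.primeCompl N)) := by
    intro N _ _
    rw [hq]
    have key : ∀ I : Ideal S, I = (maximalIdeal R).map (algebraMap R S) →
        LocCoh.idealDepth ((maximalIdeal S).map (Ideal.Quotient.mk I))
          (LocalizedModule q.asIdeal.primeCompl N ⧸ (I • ⊤ : Submodule S (LocalizedModule q.asIdeal.primeCompl N))) =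
        LocCoh.idealDepth (maximalIdeal S) (EGA4.FibMod R S (LocalizedModule q.asIdeal.primeCompl N)) := by
      rintro I rfl
      rw [← FibreDepth.idealDepth_of_surjective (O := S) Ideal.Quotient.mk_surjective]
      congr 1
      rw [Ideal.Quotient.algebraMap_eq, Ideal.comap_map_of_surjective _ Ideal.Quotient.mk_surjective]
      exact sup_eq_left.mpr ((Ideal.mk_ker (I := _)).trans_le (IsLocalRing.map_maximalIdeal_le (algebraMap R S)))
    exact key _ hI
  have hdK : ∀ (N : Type u) [AddCommGroup N] [Module B N],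
      LocCoh.idealDepth K (EGA4.FibLocMod A B q.asIdeal N) =
      LocCoh.idealDepth (K.comap (algebraMap S (EGA4.FibLocRing A B q.asIdeal)))
        (EGA4.FibMod R S (LocalizedModule q.asIdeal.primeCompl N)) := by
    intro N _ _
    have key : ∀ (I : Ideal S) (K' : Ideal (S ⧸ I)), I = (maximalIdeal R).map (algebraMap R S) →
        LocCoh.idealDepth K'
          (LocalizedModule q.asIdeal.primeCompl N ⧸ (I • ⊤ : Submodule S (LocalizedModule q.asIdeal.primeCompl N))) =
        LocCoh.idealDepth (K'.comap (algebraMap S (S ⧸ I))) (EGA4.FibMod R S (LocalizedModule q.asIdeal.primeCompl N)) := by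
      rintro I K' rfl
      exact (FibreDepth.idealDepth_of_surjective (O := S) Ideal.Quotient.mk_surjective K').symm
    exact key _ K hI
  have ex : ∀ {X Y Z : Type u} [AddCommGroup X] [Module B X] [AddCommGroup Y] [Module B Y] [AddCommGroup Z]
      [Module B Z] (a : X →ₗ[B] Y) (b : Y →ₗ[B] Z), Function.Exact a b → Function.Exact
        (LocalizedModule.map q.asIdeal.primeCompl a) (LocalizedModule.map q.asIdeal.primeCompl b) :=
    fun a b h => exact_localized_any a b h q
  refine ⟨fun h0 h1 hG => ?_, fun h0 h1 hF hlt => ?_⟩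
  · rw [hdK E0] at h0
    rw [hdK E1] at h1
    rw [hdK F]
    exact (flat_F_and_depth _ _ _ (LocalizedModule.map_injective _ f hf) (ex f u hfu) (ex u v huv)
      (LocalizedModule.map_surjective _ v hv)
      ((Module.flat_iff_of_isLocalization R p.primeCompl _).mpr hG) h0 h1).2 (maximalIdeal R) 1 (le_of_eq (pow_one _))
  · rw [hd E0] at h0
    rw [hd E1] at h1
    rw [hd F] at hF
    have h := flat_G_of_depth _ _ _ (LocalizedModule.map_injective _ f hf) (ex f u hfu) (ex u v huv)
      (LocalizedModule.map_surjective _ v hv) (J := maximalIdeal S) (fun Q hQ => ?_) h0 h1 hF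
    · exact (Module.flat_iff_of_isLocalization R p.primeCompl _).mp h
    · have hQ' : Q.asIdeal.comap (algebraMap B S) < q.asIdeal := by
        refine lt_of_le_of_ne (fun x hx => ?_) fun he => hQ (fun y hy => ?_)
        · by_contra hxq
          exact Q.2.ne_top (Q.asIdeal.eq_top_of_isUnit_mem hx
            (IsLocalization.map_units S (⟨x, hxq⟩ : q.asIdeal.primeCompl)))
        · rw [← Localization.AtPrime.map_eq_maximalIdeal] at hy
          exact Ideal.map_comap_le (Ideal.map_mono he.ge hy)
      haveI hprime : (Q.asIdeal.comap (algebraMap B S)).IsPrime := Ideal.IsPrime.comap _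
      have hA : Module.Flat A (LocalizedModule (Q.asIdeal.comap (algebraMap B S)).primeCompl G) :=
        hlt ⟨_, hprime⟩ hQ'
      haveI := isLocalizedModule_twice q.asIdeal G Q.asIdeal
      let e := IsLocalizedModule.linearEquiv (Q.asIdeal.comap (algebraMap B S)).primeCompl
        ((LocalizedModule.mkLinearMap Q.asIdeal.primeCompl (LocalizedModule q.asIdeal.primeCompl G)).restrictScalars B ∘ₗ
          LocalizedModule.mkLinearMap q.asIdeal.primeCompl G)
        (LocalizedModule.mkLinearMap (Q.asIdeal.comap (algebraMap B S)).primeCompl G)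
      haveI := hA
      haveI : Module.Flat A (LocalizedModule Q.asIdeal.primeCompl (LocalizedModule q.asIdeal.primeCompl G)) :=
        Module.Flat.of_linearEquiv (e.restrictScalars A)
      exact (Module.flat_iff_of_isLocalization R p.primeCompl _).mpr inferInstance


include hf hfu huv hv in
theorem atPrime (q : PrimeSpectrum B)
    (h0 : 2 ≤ LocCoh.idealDepth (q.asIdeal.map (algebraMap B (EGA4.FibLocRing A B q.asIdeal))) (EGA4.FibLocMod A B q.asIdeal E0))
    (h1 : 1 ≤ LocCoh.idealDepth (q.asIdeal.map (algebraMap B (EGA4.FibLocRing A B q.asIdeal))) (EGA4.FibLocMod A B q.asIdeal E1)) :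
    (FlatCA.FlatAt A q.asIdeal G →
      2 ≤ LocCoh.idealDepth (q.asIdeal.map (algebraMap B (EGA4.FibLocRing A B q.asIdeal))) (EGA4.FibLocMod A B q.asIdeal F)) ∧
    ((2 ≤ LocCoh.idealDepth (q.asIdeal.map (algebraMap B (EGA4.FibLocRing A B q.asIdeal))) (EGA4.FibLocMod A B q.asIdeal F)) →
      (∀ q' : PrimeSpectrum B, q'.asIdeal < q.asIdeal → FlatCA.FlatAt A q'.asIdeal G) → FlatCA.FlatAt A q.asIdeal G) := by
  exact ⟨(atPrimeGen f u v hf hfu huv hv q _).1 h0 h1,
    (atPrimeGen f u v hf hfu huv hv q ⊤).2 h0 h1⟩

end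

end Groth.Agent.FibDepthLib
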