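import Mathlib
import Groth.Prelude.Def_FlatCA
import Groth.Prelude.Def_EGA4b
import Groth.Agent.QGorLib.Depth
import Groth.Agent.QGorLib.FlatDepth
import Groth.Agent.CAlgBasics.FlatAux
import Groth.Agent.LocFlat.Fibre

/-! Depth along an ideal of fibres and infinitesimal fibres of flat modules. -/

set_option autoImplicit false
set_option backward.isDefEq.respectTransparency false
set_option backward.isDefEq.respectTransparency.types false
set_option linter.style.haveILetI false
set_option linter.unusedSectionVars false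

universe u

open IsLocalRing TensorProduct

namespace Groth.Agent.FibDepthLib

section Local

variable {R : Type u} [CommRing R] [IsNoetherianRing R] [IsLocalRing R]
  {a b c : Type u} [AddCommGroup a] [Module R a] [Module.Finite R a] [AddCommGroup b] [Module R b]
  [Module.Finite R b] [AddCommGroup c] [Module R c] [Module.Finite R c]
  (f : a →ₗ[R] b) (g : b →ₗ[R] c)

theorem one_le_depth_middle (hfg : Function.Exact f g) (ha : 1 ≤ LocCoh.depth R a)
    (hc : 1 ≤ LocCoh.depth R c) (hf : Function.Injective f) : 1 ≤ LocCoh.depth R b := by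
  rw [CAlgBasics.one_le_depth_iff] at ha hc ⊢
  intro x hx
  have hgx : g x = 0 := hc _ fun r hr => by rw [← map_smul, hx r hr, map_zero]
  obtain ⟨t, rfl⟩ := (hfg x).mp hgx
  rw [ha t fun r hr => hf (by rw [map_smul, hx r hr, map_zero]), map_zero]

theorem exists_regular_both (h1 : CAlgBasics.SocleZero R a) (h2 : CAlgBasics.SocleZero R b)
    [Nontrivial (a × b)] : ∃ s ∈ maximalIdeal R, IsSMulRegular a s ∧ IsSMulRegular b s := by
  have h : CAlgBasics.SocleZero R (a × b) := fun x hx =>
    Prod.ext (h1 _ fun r hr => congrArg Prod.fst (hx r hr)) (h2 _ fun r hr => congrArg Prod.snd (hx r hr))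
  obtain ⟨s, hs, hreg⟩ := h.exists_isSMulRegular
  refine ⟨s, hs, fun x y hxy => ?_, fun x y hxy => ?_⟩
  · have h3 := @hreg (x, (0 : b)) (y, 0) (Prod.ext hxy rfl)
    exact congrArg Prod.fst h3
  · have h3 := @hreg ((0 : a), x) (0, y) (Prod.ext rfl hxy)
    exact congrArg Prod.snd h3

theorem two_le_depth_middle (hfg : Function.Exact f g) (hf : Function.Injective f) (hg : Function.Surjective g)
    (ha : 2 ≤ LocCoh.depth R a) (hc : 2 ≤ LocCoh.depth R c) : 2 ≤ LocCoh.depth R b := by
  rcases subsingleton_or_nontrivial b with hb | hb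
  · rw [CAlgBasics.depth_eq_top]; exact le_top
  have hb1 := one_le_depth_middle f g hfg (le_trans one_le_two ha) (le_trans one_le_two hc) hf
  rw [CAlgBasics.one_le_depth_iff] at hb1
  rw [CAlgBasics.two_le_depth_iff] at ha hc ⊢
  obtain ⟨ha1, ha2⟩ := ha
  obtain ⟨hc1, hc2⟩ := hc
  obtain ⟨s, hs, hsb, hsc⟩ := exists_regular_both hb1 hc1
  have hsa : IsSMulRegular a s := fun x y hxy => hf (hsb (by simpa only [map_smul] using congrArg f hxy))
  refine ⟨hb1, fun r hr hreg => CAlgBasics.socleZeroMod_of_socleZeroMod hreg hsb hs fun z hz => ?_⟩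
  obtain ⟨wc, hwc⟩ := hc2 s hs hsc (g z) fun r hr => by
    obtain ⟨v, hv⟩ := hz r hr
    exact ⟨g v, by rw [← map_smul, hv, map_smul]⟩
  obtain ⟨w, rfl⟩ := hg wc
  obtain ⟨t, ht⟩ := (hfg (z - s • w)).mp (by rw [map_sub, map_smul, hwc, sub_self])
  obtain ⟨t', ht'⟩ := ha2 s hs hsa t fun r hr => by
    obtain ⟨v, hv⟩ := hz r hr
    have h1 : f (r • t) = s • (v - r • w) := by
      rw [map_smul, ht, smul_sub, smul_sub, hv, smul_comm r s]
    have h2 : g (v - r • w) = 0 := hsc (by
      show s • g (v - r • w) = s • (0 : c)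
      rw [smul_zero, ← map_smul, ← h1, hfg.apply_apply_eq_zero])
    obtain ⟨v', hv'⟩ := (hfg _).mp h2
    exact ⟨v', hf (by rw [h1, map_smul, hv'])⟩
  exact ⟨w + f t', by rw [smul_add, ← map_smul, ← ht', ht]; abel⟩

theorem one_le_depth_coker (hfg : Function.Exact f g) (hf : Function.Injective f) (hg : Function.Surjective g)
    (ha : 2 ≤ LocCoh.depth R a) (hb : 1 ≤ LocCoh.depth R b) : 1 ≤ LocCoh.depth R c := by
  rcases subsingleton_or_nontrivial b with hbb | hbb
  · haveI := hg.subsingleton
    rw [CAlgBasics.depth_eq_top]; exact le_top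
  rw [CAlgBasics.two_le_depth_iff] at ha
  rw [CAlgBasics.one_le_depth_iff] at hb ⊢
  obtain ⟨ha1, ha2⟩ := ha
  obtain ⟨s, hs, hsa, hsb⟩ := exists_regular_both ha1 hb
  intro zc hzc
  obtain ⟨z, rfl⟩ := hg zc
  have key : ∀ r ∈ maximalIdeal R, ∃ t, f t = r • z := fun r hr =>
    (hfg (r • z)).mp (by rw [map_smul, hzc r hr])
  obtain ⟨t, ht⟩ := key s hs
  obtain ⟨t', ht'⟩ := ha2 s hs hsa t fun r hr => by
    obtain ⟨tr, htr⟩ := key r hr
    exact ⟨tr, hf (by rw [map_smul, map_smul, ht, htr, smul_comm])⟩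
  have : z = f t' := hsb (by show s • z = s • f t'; rw [← map_smul, ← ht', ht])
  rw [this, hfg.apply_apply_eq_zero]

end Local

section Global

variable {B : Type u} [CommRing B] [IsNoetherianRing B] {J : Ideal B}
  {a b c : Type u} [AddCommGroup a] [Module B a] [Module.Finite B a] [AddCommGroup b] [Module B b]
  [Module.Finite B b] [AddCommGroup c] [Module B c] [Module.Finite B c]
  (f : a →ₗ[B] b) (g : b →ₗ[B] c)

theorem exact_localized (hfg : Function.Exact f g) (p : PrimeSpectrum B) :
    Function.Exact (LocalizedModule.map p.asIdeal.primeCompl f) (LocalizedModule.map p.asIdeal.primeCompl g) :=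
  IsLocalizedModule.map_exact p.asIdeal.primeCompl (LocalizedModule.mkLinearMap _ _)
    (LocalizedModule.mkLinearMap _ _) (LocalizedModule.mkLinearMap _ _) _ _ hfg

theorem le_idealDepth_middle {d : ℕ} (hd : d = 1 ∨ d = 2) (hfg : Function.Exact f g) (hf : Function.Injective f)
    (hg : Function.Surjective g) (ha : (d : ℕ∞) ≤ LocCoh.idealDepth J a) (hc : (d : ℕ∞) ≤ LocCoh.idealDepth J c) :
    (d : ℕ∞) ≤ LocCoh.idealDepth J b := by
  rw [QGorLib.le_idealDepth_iff_forall] at ha hc ⊢
  intro p hp
  have h1 := exact_localized f g hfg p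
  have h2 := LocalizedModule.map_injective p.asIdeal.primeCompl f hf
  have h3 := LocalizedModule.map_surjective p.asIdeal.primeCompl g hg
  rcases hd with rfl | rfl
  · have := one_le_depth_middle _ _ h1 (by exact_mod_cast ha p hp) (by exact_mod_cast hc p hp) h2
    exact_mod_cast this
  · have := two_le_depth_middle _ _ h1 h2 h3 (by exact_mod_cast ha p hp) (by exact_mod_cast hc p hp)
    exact_mod_cast this

theorem one_le_idealDepth_coker (hfg : Function.Exact f g) (hf : Function.Injective f)
    (hg : Function.Surjective g) (ha : 2 ≤ LocCoh.idealDepth J a) (hb : 1 ≤ LocCoh.idealDepth J b) :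
    1 ≤ LocCoh.idealDepth J c := by
  rw [← Nat.cast_ofNat, QGorLib.le_idealDepth_iff_forall] at ha
  rw [← Nat.cast_one, QGorLib.le_idealDepth_iff_forall] at hb ⊢
  intro p hp
  have := one_le_depth_coker _ _ (exact_localized f g hfg p) (LocalizedModule.map_injective p.asIdeal.primeCompl f hf)
    (LocalizedModule.map_surjective p.asIdeal.primeCompl g hg) (ha p hp) (by exact_mod_cast hb p hp)
  exact_mod_cast this

theorem two_le_idealDepth_left (hfg : Function.Exact f g) (hf : Function.Injective f)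
    (hb : 2 ≤ LocCoh.idealDepth J b) (hc : 1 ≤ LocCoh.idealDepth J c) : 2 ≤ LocCoh.idealDepth J a := by
  rw [← Nat.cast_ofNat, QGorLib.le_idealDepth_iff_forall] at hb ⊢
  rw [← Nat.cast_one, QGorLib.le_idealDepth_iff_forall] at hc
  intro p hp
  exact QGorLib.two_le_depth_of_exact _ _ (LocalizedModule.map_injective p.asIdeal.primeCompl f hf)
    (exact_localized f g hfg p) (hb p hp) (by exact_mod_cast hc p hp)

/-- An element killed off `V(J)` of a module of positive `J`-depth is zero. -/
theorem eq_zero_of_killed_off (h1 : 1 ≤ LocCoh.idealDepth J b) (x : b)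
    (hx : ∀ q : PrimeSpectrum B, ¬ J ≤ q.asIdeal → ∃ s, s ∉ q.asIdeal ∧ s • x = 0) : x = 0 := by
  by_contra hne
  obtain ⟨p, hp, -⟩ := exists_le_isAssociatedPrime_of_isNoetherianRing B
    (⟨x, Submodule.mem_span_singleton_self x⟩ : Submodule.span B {x}) (fun h => hne (congrArg Subtype.val h))
  obtain ⟨hprime, g, hg⟩ := (isAssociatedPrime_iff_exists_injective_linearMap _ _).1 hp
  let y : b := (g (Ideal.Quotient.mk p 1) : Submodule.span B {x}).1
  have hy : ∀ r : B, r • y = 0 ↔ r ∈ p := fun r => by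
    show r • ((g (Ideal.Quotient.mk p 1) : Submodule.span B {x}) : b) = 0 ↔ _
    rw [← Submodule.coe_smul, ZeroMemClass.coe_eq_zero, ← map_smul, map_eq_zero_iff _ hg, Algebra.smul_def,
      Ideal.Quotient.algebraMap_eq, ← map_mul, mul_one, Ideal.Quotient.eq_zero_iff_mem]
  obtain ⟨r₀, hr₀⟩ := Submodule.mem_span_singleton.mp (g (Ideal.Quotient.mk p 1)).2
  have hJp : J ≤ p := by
    by_contra hJ
    obtain ⟨s, hs, hsx⟩ := hx ⟨p, hprime⟩ hJ
    refine hs ((hy s).mp ?_)
    show s • ((g (Ideal.Quotient.mk p 1) : Submodule.span B {x}) : b) = 0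
    rw [← hr₀, smul_comm, hsx, smul_zero]
  rw [← Nat.cast_one, QGorLib.le_idealDepth_iff_forall] at h1
  have h2 := h1 ⟨p, hprime⟩ hJp
  rw [Nat.cast_one, CAlgBasics.one_le_depth_iff] at h2
  haveI := hprime
  have h3 := h2 (LocalizedModule.mkLinearMap p.primeCompl b y) fun r hr => by
    rw [← Localization.AtPrime.map_eq_maximalIdeal] at hr
    induction hr using Submodule.span_induction with
    | mem w hw =>
      obtain ⟨v, hv, rfl⟩ := hw
      rw [algebraMap_smul, ← map_smul, (hy v).mpr hv, map_zero]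
    | zero => rw [zero_smul]
    | add u v _ _ hu hv => rw [add_smul, hu, hv, add_zero]
    | smul t v _ hv => rw [smul_eq_mul, mul_smul, hv, smul_zero]
  rw [IsLocalizedModule.eq_zero_iff p.primeCompl] at h3
  obtain ⟨s, hs⟩ := h3
  exact s.2 ((hy s).mp hs)

end Global

end Groth.Agent.FibDepthLib
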