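import Groth.Agent.FibDepthLib.Reflexive
import Groth.Agent.S18709
import Groth.Agent.S18700

/-! Double duals and base change for modules locally free off a closed set. -/

set_option autoImplicit false
set_option backward.isDefEq.respectTransparency false
set_option backward.isDefEq.respectTransparency.types false
set_option linter.style.haveILetI false
set_option linter.unusedSectionVars false

universe u

open IsLocalRing TensorProduct

namespace Groth.Agent.FibDepthLib

section Off

variable {B : Type u} [CommRing B]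

/-- `φ` is invertible up to an element outside each prime off `V(J)`. -/
def IsoOff (J : Ideal B) {X Y : Type u} [AddCommGroup X] [Module B X] [AddCommGroup Y] [Module B Y] (φ : X →ₗ[B] Y) : Prop :=
  ∀ q : PrimeSpectrum B, ¬ J ≤ q.asIdeal → ∃ t, t ∉ q.asIdeal ∧ ∃ χ : Y →ₗ[B] X,
    φ ∘ₗ χ = t • LinearMap.id ∧ χ ∘ₗ φ = t • LinearMap.id

variable {J : Ideal B} {X Y : Type u} [AddCommGroup X] [Module B X] [AddCommGroup Y] [Module B Y] {φ : X →ₗ[B] Y}

theorem exists_uniform {P : Type u} [AddCommGroup P] [Module B P] [Module.Finite B P] (L : Submodule B P)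
    (q : Ideal B) [q.IsPrime] (h : ∀ x, ∃ a ∉ q, a • x ∈ L) : ∃ s ∉ q, ∀ x, s • x ∈ L := by
  classical
  obtain ⟨S, hS⟩ := (Module.Finite.fg_top : (⊤ : Submodule B P).FG)
  choose a ha hax using h
  refine ⟨∏ x ∈ S, a x, fun hm => ?_, fun x => ?_⟩
  · obtain ⟨x, -, hx⟩ := Ideal.IsPrime.prod_mem_iff.mp hm
    exact ha x hx
  · have : (⊤ : Submodule B P) ≤ L.comap ((∏ x ∈ S, a x) • (LinearMap.id : P →ₗ[B] P)) := by
      rw [← hS, Submodule.span_le]
      intro y hy
      show (∏ x ∈ S, a x) • y ∈ L
      rw [← Finset.mul_prod_erase S a hy, mul_comm, mul_smul]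
      exact L.smul_mem _ (hax y)
    exact this Submodule.mem_top

theorem isoOff_of_killed [IsNoetherianRing B] [Module.Finite B X] [Module.Finite B Y]
    (hk : ∀ q : PrimeSpectrum B, ¬ J ≤ q.asIdeal →
      (∀ x, φ x = 0 → ∃ a ∉ q.asIdeal, a • x = 0) ∧ ∀ y, ∃ a ∉ q.asIdeal, ∃ x, a • y = φ x) : IsoOff J φ := by
  intro q hq
  obtain ⟨h1, h2⟩ := hk q hq
  obtain ⟨s1, hs1, hk1⟩ := exists_uniform (⊥ : Submodule B (LinearMap.ker φ)) q.asIdeal fun x => by
    obtain ⟨a, ha, hax⟩ := h1 x.1 x.2
    exact ⟨a, ha, (Submodule.mem_bot B).mpr (Subtype.ext hax)⟩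
  obtain ⟨s2, hs2, hk2⟩ := exists_uniform (LinearMap.range φ) q.asIdeal fun y => by
    obtain ⟨a, ha, x, hx⟩ := h2 y
    exact ⟨a, ha, x, hx.symm⟩
  have hker : ∀ x, φ x = 0 → s1 • x = 0 := fun x hx =>
    congrArg Subtype.val ((Submodule.mem_bot B).mp (hk1 ⟨x, hx⟩))
  choose c hc using hk2
  have huniq : ∀ x y, φ x = s2 • y → s1 • x = s1 • c y := fun x y h => by
    rw [← sub_eq_zero, ← smul_sub]
    exact hker _ (by rw [map_sub, hc, h, sub_self])
  let χ : Y →ₗ[B] X :=
    { toFun := fun y => s1 • c y
      map_add' := fun y z => by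
        rw [← smul_add]
        exact (huniq (c y + c z) (y + z) (by rw [map_add, hc, hc, smul_add])).symm
      map_smul' := fun r y => by
        rw [RingHom.id_apply, smul_comm r s1]
        exact (huniq (r • c y) (r • y) (by rw [map_smul, hc, smul_comm])).symm }
  refine ⟨s1 * s2, fun h => (q.isPrime.mem_or_mem h).elim hs1 hs2, χ, LinearMap.ext fun y => ?_, LinearMap.ext fun x => ?_⟩
  · show φ (s1 • c y) = (s1 * s2) • y
    rw [map_smul, hc, mul_smul]
  · show s1 • c (φ x) = (s1 * s2) • x
    rw [mul_smul]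
    exact (huniq (s2 • x) (φ x) (map_smul φ s2 x)).symm

theorem IsoOff.dualMap (h : IsoOff J φ) : IsoOff J φ.dualMap := fun q hq => by
  obtain ⟨t, ht, χ, h1, h2⟩ := h q hq
  exact ⟨t, ht, χ.dualMap,
    LinearMap.ext fun f => LinearMap.ext fun x => show f (χ (φ x)) = t • f x by
      rw [show χ (φ x) = t • x from LinearMap.congr_fun h2 x, map_smul],
    LinearMap.ext fun f => LinearMap.ext fun x => show f (φ (χ x)) = t • f x by
      rw [show φ (χ x) = t • x from LinearMap.congr_fun h1 x, map_smul]⟩

theorem IsoOff.baseChange {B' : Type u} [CommRing B'] [Algebra B B'] (h : IsoOff J φ) :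
    IsoOff (J.map (algebraMap B B')) (φ.baseChange B') := fun q hq => by
  obtain ⟨t, ht, χ, h1, h2⟩ := h (PrimeSpectrum.comap (algebraMap B B') q) fun hJ => hq (Ideal.map_le_iff_le_comap.mpr hJ)
  refine ⟨algebraMap B B' t, ht, χ.baseChange B', ?_, ?_⟩
  · rw [← LinearMap.baseChange_comp, h1, LinearMap.baseChange_smul, LinearMap.baseChange_id, algebraMap_smul]
  · rw [← LinearMap.baseChange_comp, h2, LinearMap.baseChange_smul, LinearMap.baseChange_id, algebraMap_smul]

theorem bijective_of_isoOff [IsNoetherianRing B] [Module.Finite B X] [Module.Finite B Y] (h : IsoOff J φ)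
    (hX : 2 ≤ LocCoh.idealDepth J X) (hY : 1 ≤ LocCoh.idealDepth J Y) : Function.Bijective φ := by
  have hinj : Function.Injective φ := (injective_iff_map_eq_zero _).mpr fun x hx =>
    eq_zero_of_killed_off (J := J) (le_trans one_le_two hX) x fun q hq => by
      obtain ⟨t, ht, χ, -, h2⟩ := h q hq
      exact ⟨t, ht, by simpa [hx] using (LinearMap.congr_fun h2 x).symm⟩
  refine ⟨hinj, fun y => ?_⟩
  have hC := one_le_idealDepth_coker φ (LinearMap.range φ).mkQ
    (fun z => Submodule.Quotient.mk_eq_zero _) hinj (Submodule.mkQ_surjective _) hX hY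
  have := eq_zero_of_killed_off (J := J) hC (Submodule.Quotient.mk y) fun q hq => by
    obtain ⟨t, ht, χ, h1, -⟩ := h q hq
    exact ⟨t, ht, by
      rw [← Submodule.Quotient.mk_smul, Submodule.Quotient.mk_eq_zero]
      exact ⟨χ y, LinearMap.congr_fun h1 y⟩⟩
  exact (Submodule.Quotient.mk_eq_zero _).mp this

theorem isoOff_eval [IsNoetherianRing B] (F : Type u) [AddCommGroup F] [Module B F] [Module.Finite B F]
    (hFU : ∀ q : PrimeSpectrum B, ¬ J ≤ q.asIdeal → Module.Free (Localization.AtPrime q.asIdeal) (LocalizedModule q.asIdeal.primeCompl F)) :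
    IsoOff J (Module.Dual.eval B F) := by
  haveI : Module.FinitePresentation B F := Module.finitePresentation_of_finite B F
  refine isoOff_of_killed fun q hq => ?_
  haveI := hFU q hq
  haveI : Module.Finite (Localization.AtPrime q.asIdeal) (LocalizedModule q.asIdeal.primeCompl F) :=
    Module.Finite.of_isLocalizedModule q.asIdeal.primeCompl (LocalizedModule.mkLinearMap q.asIdeal.primeCompl F)
  exact QGorLib.eval_conditions_of_reflexive_localization q.asIdeal

theorem two_le_idealDepth_dual [IsNoetherianRing B] (hB : 2 ≤ LocCoh.idealDepth J B) (N : Type u) [AddCommGroup N]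
    [Module B N] [Module.Finite B N] : 2 ≤ LocCoh.idealDepth J (Module.Dual B N) := by
  obtain ⟨n, π, hπ⟩ := Module.Finite.exists_fin' B N
  obtain ⟨m, P0, hP0⟩ := Module.Finite.exists_fin' B (LinearMap.ker π)
  let P : (Fin m → B) →ₗ[B] (Fin n → B) := (LinearMap.ker π).subtype ∘ₗ P0
  have hex : Function.Exact π.dualMap P.dualMap := by
    intro f
    constructor
    · intro hf
      have hle : LinearMap.ker π ≤ LinearMap.ker f := fun z hz => by
        obtain ⟨w, hw⟩ := hP0 ⟨z, hz⟩
        have := LinearMap.congr_fun hf w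
        simpa [P, hw] using this
      refine ⟨(LinearMap.ker π).liftQ f hle ∘ₗ (π.quotKerEquivOfSurjective hπ).symm.toLinearMap, LinearMap.ext fun z => ?_⟩
      rw [LinearMap.dualMap_apply, LinearMap.comp_apply, LinearEquiv.coe_coe,
        show (π.quotKerEquivOfSurjective hπ).symm (π z) = Submodule.Quotient.mk z from
          (π.quotKerEquivOfSurjective hπ).injective (by rw [LinearEquiv.apply_symm_apply]; rfl)]
      rfl
    · rintro ⟨g, rfl⟩
      exact LinearMap.ext fun w => by simp [P, (P0 w).2]
  have hd : ∀ k : ℕ, (2 : ℕ∞) ≤ LocCoh.idealDepth J (Module.Dual B (Fin k → B)) := fun k =>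
    le_idealDepth_of_flat 2 hB
  exact two_le_idealDepth_left π.dualMap P.dualMap hex (LinearMap.dualMap_injective_of_surjective hπ) (hd n)
    (le_trans one_le_two (hd m))

end Off

section Flat

variable {A B : Type u} [CommRing A] [CommRing B] [Algebra A B]

theorem lTensor_pushout_injective {A' B' : Type u} [CommRing A'] [CommRing B'] [Algebra A A'] [Algebra B B']
    [Algebra A' B'] [Algebra A B'] [IsScalarTower A B B'] [IsScalarTower A A' B'] [Algebra.IsPushout A A' B B']
    {X Y Z : Type u} [AddCommGroup X] [Module B X] [Module A X] [IsScalarTower A B X]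
    [AddCommGroup Y] [Module B Y] [Module A Y] [IsScalarTower A B Y]
    [AddCommGroup Z] [Module B Z] [Module A Z] [IsScalarTower A B Z]
    (a : X →ₗ[B] Y) (b : Y →ₗ[B] Z) (ha : Function.Injective a) (hab : Function.Exact a b) (hb : Function.Surjective b)
    [Module.Flat A Z] : Function.Injective (a.lTensor B') := by
  let eX := Algebra.IsPushout.cancelBaseChange A A' B B' X
  let eY := Algebra.IsPushout.cancelBaseChange A A' B B' Y
  have h : ∀ w, a.lTensor B' (eX.symm w) = eY.symm ((a.restrictScalars A).lTensor A' w) := by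
    intro w
    induction w with
    | zero => simp
    | add x y hx hy => simp only [map_add, hx, hy]
    | tmul s x => simp [eX, eY]
  have h1 : Function.Injective ((a.restrictScalars A).lTensor A') := by
    have := CAlgBasics.rTensor_injective_of_flat_quotient (f := a.restrictScalars A) (g := b.restrictScalars A) ha hab hb A'
    intro x y hxy
    apply (TensorProduct.comm A A' X).injective
    refine this ?_
    rw [← LinearMap.comm_comp_lTensor_comp_comm_eq]
    simp [hxy]
  intro x y hxy
  obtain ⟨x, rfl⟩ := eX.symm.surjective x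
  obtain ⟨y, rfl⟩ := eX.symm.surjective y
  rw [h, h] at hxy
  exact congrArg _ (h1 (eY.symm.injective hxy))

end Flat

end Groth.Agent.FibDepthLib
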