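import Groth.Agent.FibDepthLib.Basic

/-! Reduction modulo ideals of the base and depth of infinitesimal fibres. -/

set_option autoImplicit false
set_option backward.isDefEq.respectTransparency false
set_option backward.isDefEq.respectTransparency.types false
set_option linter.style.haveILetI false
set_option linter.unusedSectionVars false

universe u

open IsLocalRing TensorProduct

namespace Groth.Agent.FibDepthLib

variable {A B : Type u} [CommRing A] [CommRing B] [Algebra A B]

/-- The submodule `I M`. -/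
abbrev sm (I : Ideal A) (M : Type u) [AddCommGroup M] [Module B M] : Submodule B M :=
  I.map (algebraMap A B) • ⊤

variable {N M P : Type u} [AddCommGroup N] [Module B N] [Module A N] [IsScalarTower A B N]
  [AddCommGroup M] [Module B M] [Module A M] [IsScalarTower A B M]
  [AddCommGroup P] [Module B P] [Module A P] [IsScalarTower A B P]

theorem mem_sm_iff (I : Ideal A) (x : M) : x ∈ sm (B := B) I M ↔ x ∈ (I • ⊤ : Submodule A M) :=
  (LocFlat.mem_smul_top_iff I x).symm

theorem map_mem_sm (I : Ideal A) (u : N →ₗ[B] M) {x : N} (hx : x ∈ sm (B := B) I N) : u x ∈ sm (B := B) I M := by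
  have := Submodule.mem_map_of_mem (f := u) hx
  rw [Submodule.map_smul''] at this
  exact Submodule.smul_mono le_rfl le_top this

/-- Reduction of a map modulo an ideal of the base. -/
def red (I : Ideal A) (u : N →ₗ[B] M) : (N ⧸ sm (B := B) I N) →ₗ[B] (M ⧸ sm (B := B) I M) :=
  Submodule.mapQ _ _ u fun _ hx => map_mem_sm I u hx

theorem red_mk (I : Ideal A) (u : N →ₗ[B] M) (x : N) :
    red I u (Submodule.Quotient.mk x) = Submodule.Quotient.mk (u x) := rfl

theorem one_tmul_eq_zero_iff (I : Ideal A) (x : M) :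
    ((1 : A ⧸ I) ⊗ₜ[A] x) = 0 ↔ x ∈ (I • ⊤ : Submodule A M) := by
  rw [← (TensorProduct.quotTensorEquivQuotSMul M I).map_eq_zero_iff,
    CAlgBasics.quotTensorEquivQuotSMul_one_tmul, Submodule.Quotient.mk_eq_zero]

theorem one_tmul_eq_zero_iff' (I : Ideal A) (x : M) :
    (x ⊗ₜ[A] (1 : A ⧸ I)) = 0 ↔ x ∈ (I • ⊤ : Submodule A M) := by
  rw [← one_tmul_eq_zero_iff, ← (TensorProduct.comm A M (A ⧸ I)).map_eq_zero_iff, TensorProduct.comm_tmul]

/-- An injective map with flat cokernel stays injective modulo ideals. -/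
theorem mem_of_map_mem (u : N →ₗ[B] M) (g : M →ₗ[B] P) (hu : Function.Injective u) (hug : Function.Exact u g)
    (hg : Function.Surjective g) [Module.Flat A P] (I : Ideal A) {x : N} (hx : u x ∈ sm (B := B) I M) :
    x ∈ sm (B := B) I N := by
  rw [mem_sm_iff, ← one_tmul_eq_zero_iff'] at hx ⊢
  refine CAlgBasics.rTensor_injective_of_flat_quotient (f := u.restrictScalars A) (g := g.restrictScalars A)
    hu hug hg (A ⧸ I) ?_
  rw [map_zero]
  exact hx

theorem red_injective (u : N →ₗ[B] M) (g : M →ₗ[B] P) (hu : Function.Injective u) (hug : Function.Exact u g)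
    (hg : Function.Surjective g) [Module.Flat A P] (I : Ideal A) : Function.Injective (red I u) := by
  rw [injective_iff_map_eq_zero]
  intro x hx
  obtain ⟨x, rfl⟩ := Submodule.Quotient.mk_surjective _ x
  rw [red_mk, Submodule.Quotient.mk_eq_zero] at hx
  exact (Submodule.Quotient.mk_eq_zero _).mpr (mem_of_map_mem u g hu hug hg I hx)

theorem red_exact (u : N →ₗ[B] M) (g : M →ₗ[B] P) (hug : Function.Exact u g) (hg : Function.Surjective g)
    (I : Ideal A) : Function.Exact (red I u) (red I g) := by
  intro y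
  obtain ⟨y, rfl⟩ := Submodule.Quotient.mk_surjective _ y
  constructor
  · intro hy
    rw [red_mk, Submodule.Quotient.mk_eq_zero] at hy
    have hmap : Submodule.map g (sm (B := B) I M) = sm (B := B) I P := by
      rw [Submodule.map_smul'', Submodule.map_top, LinearMap.range_eq_top.mpr hg]
    rw [← hmap] at hy
    obtain ⟨y', hy', hgy⟩ := hy
    obtain ⟨x, hx⟩ := (hug (y - y')).mp (by rw [map_sub, hgy, sub_self])
    refine ⟨Submodule.Quotient.mk x, ?_⟩
    rw [red_mk, hx, Submodule.Quotient.mk_sub, (Submodule.Quotient.mk_eq_zero _).mpr hy', sub_zero]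
  · rintro ⟨x, hx⟩
    obtain ⟨x, rfl⟩ := Submodule.Quotient.mk_surjective _ x
    rw [← hx, red_mk, red_mk, hug.apply_apply_eq_zero, Submodule.Quotient.mk_zero]

theorem red_surjective (g : M →ₗ[B] P) (hg : Function.Surjective g) (I : Ideal A) : Function.Surjective (red I g) :=
  fun y => by
    obtain ⟨y, rfl⟩ := Submodule.Quotient.mk_surjective _ y
    obtain ⟨x, rfl⟩ := hg y
    exact ⟨Submodule.Quotient.mk x, red_mk _ _ _⟩

theorem sm_eq_top : sm (B := B) (⊤ : Ideal A) M = ⊤ := by
  rw [sm, Ideal.map_top, Submodule.top_smul]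

theorem sm_pow (I : Ideal A) (n : ℕ) : sm (B := B) (I ^ n) M = (I.map (algebraMap A B)) ^ n • (⊤ : Submodule B M) := by
  rw [sm, Ideal.map_pow]

variable [IsLocalRing A] [IsNoetherianRing A] [IsNoetherianRing B] [Module.Finite B M]

/-- Depth of the closed fibre of a flat module passes to infinitesimal fibres. -/
theorem depth_infinitesimal [Module.Flat A M] {J : Ideal B} {d : ℕ} (hd : d = 1 ∨ d = 2)
    (h : (d : ℕ∞) ≤ LocCoh.idealDepth J (EGA4.FibMod A B M)) (I : Ideal A) (N₀ : ℕ) (hI : maximalIdeal A ^ N₀ ≤ I) :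
    (d : ℕ∞) ≤ LocCoh.idealDepth J (M ⧸ sm (B := B) I M) := by
  induction I using IsNoetherian.induction with
  | _ I ih =>
    rcases eq_or_ne I ⊤ with rfl | hne
    · haveI : Subsingleton (M ⧸ sm (B := B) (⊤ : Ideal A) M) := by
        rw [sm_eq_top]
        exact Submodule.Quotient.subsingleton_iff.mpr rfl
      simp [LocCoh.idealDepth, Subsingleton.elim (_ : Submodule B (M ⧸ sm (B := B) (⊤ : Ideal A) M)) ⊤]
    have hex : ∃ j, maximalIdeal A ^ j ≤ I := ⟨N₀, hI⟩
    classical
    let j := Nat.find hex
    have hj := Nat.find_spec hex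
    have hj0 : j ≠ 0 := fun h0 => hne (top_le_iff.mp (by simpa [j, h0, pow_zero, Ideal.one_eq_top] using hj))
    obtain ⟨x, hx, hxI⟩ := SetLike.not_le_iff_exists.mp (Nat.find_min hex (show j - 1 < j by omega))
    have hmx : ∀ t ∈ maximalIdeal A, t * x ∈ I := fun t ht => hj (by
      show t * x ∈ maximalIdeal A ^ j
      rw [show j = (j - 1) + 1 by omega, pow_succ']
      exact Ideal.mul_mem_mul ht hx)
    let I' := I ⊔ Ideal.span {x}
    have hlt : I < I' := lt_of_le_of_ne le_sup_left fun he =>
      hxI (he.ge (Ideal.mem_sup_right (Ideal.mem_span_singleton_self x)))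
    have hc := ih I' hlt (hI.trans le_sup_left)
    let ψ₀ : M →ₗ[B] M ⧸ sm (B := B) I M := Submodule.mkQ _ ∘ₗ ((algebraMap A B x) • LinearMap.id)
    have hψ0 : ∀ y, ψ₀ y = Submodule.Quotient.mk (x • y) := fun y => by
      show Submodule.Quotient.mk (algebraMap A B x • y) = _
      rw [algebraMap_smul]
    have hle : EGA4.mB A B • (⊤ : Submodule B M) ≤ LinearMap.ker ψ₀ := fun y hy => by
      rw [LinearMap.mem_ker, hψ0, Submodule.Quotient.mk_eq_zero, mem_sm_iff]
      have hy' : y ∈ (maximalIdeal A • ⊤ : Submodule A M) := (mem_sm_iff _ y).mp hy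
      refine Submodule.smul_induction_on hy' (fun t ht z _ => ?_) fun u v hu hv => ?_
      · rw [smul_smul, mul_comm]
        exact Submodule.smul_mem_smul (hmx t ht) Submodule.mem_top
      · rw [smul_add]; exact add_mem hu hv
    let ψ : EGA4.FibMod A B M →ₗ[B] M ⧸ sm (B := B) I M := Submodule.liftQ _ ψ₀ hle
    have hmap : sm (B := B) I M ≤ sm (B := B) I' M := Submodule.smul_mono (Ideal.map_mono le_sup_left) le_rfl
    let π : (M ⧸ sm (B := B) I M) →ₗ[B] M ⧸ sm (B := B) I' M := Submodule.factor hmap
    let j₀ : A ⧸ maximalIdeal A →ₗ[A] A ⧸ I :=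
      Submodule.liftQ _ (Submodule.mkQ I ∘ₗ LinearMap.toSpanSingleton A A x) fun t ht => by
        rw [LinearMap.mem_ker, LinearMap.comp_apply, LinearMap.toSpanSingleton_apply, Submodule.mkQ_apply,
          Submodule.Quotient.mk_eq_zero, smul_eq_mul]
        exact hmx t ht
    have hj₀ : Function.Injective j₀ := by
      rw [injective_iff_map_eq_zero]
      intro t ht
      obtain ⟨t, rfl⟩ := Submodule.Quotient.mk_surjective _ t
      rw [Submodule.Quotient.mk_eq_zero]
      by_contra htm
      have ht' : t * x ∈ I := (Submodule.Quotient.mk_eq_zero I).mp ht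
      exact hxI ((Ideal.unit_mul_mem_iff_mem _ (IsLocalRing.notMem_maximalIdeal.mp htm)).mp ht')
    have hψinj : Function.Injective ψ := by
      rw [injective_iff_map_eq_zero]
      intro y hy
      obtain ⟨y, rfl⟩ := Submodule.Quotient.mk_surjective _ y
      have hy' : x • y ∈ (I • ⊤ : Submodule A M) := by
        rw [← mem_sm_iff (B := B), ← Submodule.Quotient.mk_eq_zero, ← hψ0]; exact hy
      refine (Submodule.Quotient.mk_eq_zero _).mpr ((mem_sm_iff _ y).mpr ((one_tmul_eq_zero_iff' _ y).mp ?_))
      refine Module.Flat.lTensor_preserves_injective_linearMap (M := M) j₀ hj₀ ?_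
      rw [map_zero, LinearMap.lTensor_tmul]
      have : j₀ 1 = x • (1 : A ⧸ I) := by
        show Submodule.Quotient.mk ((1 : A) • x) = _
        rw [one_smul, Algebra.smul_def, mul_one]
        rfl
      rw [this, TensorProduct.tmul_smul, TensorProduct.smul_tmul', (one_tmul_eq_zero_iff' I (x • y)).mpr hy']
    have hexact : Function.Exact ψ π := by
      intro z
      obtain ⟨z, rfl⟩ := Submodule.Quotient.mk_surjective _ z
      constructor
      · intro hz
        have hz' : z ∈ sm (B := B) I' M := (Submodule.Quotient.mk_eq_zero _).mp hz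
        rw [sm, Ideal.map_sup, Submodule.sup_smul, Ideal.map_span, Set.image_singleton] at hz'
        obtain ⟨z₁, hz₁, z₂, hz₂, rfl⟩ := Submodule.mem_sup.mp hz'
        rw [Submodule.ideal_span_singleton_smul, Submodule.mem_smul_pointwise_iff_exists] at hz₂
        obtain ⟨w, -, rfl⟩ := hz₂
        refine ⟨Submodule.Quotient.mk w, ?_⟩
        rw [Submodule.Quotient.mk_add, (Submodule.Quotient.mk_eq_zero _).mpr hz₁, zero_add]
        rfl
      · rintro ⟨w, hw⟩
        obtain ⟨w, rfl⟩ := Submodule.Quotient.mk_surjective _ w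
        rw [← hw]
        show π (ψ₀ w) = 0
        rw [hψ0]
        show Submodule.Quotient.mk (x • w) = 0
        rw [Submodule.Quotient.mk_eq_zero, mem_sm_iff]
        exact Submodule.smul_mem_smul (Ideal.mem_sup_right (Ideal.mem_span_singleton_self x)) Submodule.mem_top
    have hπ : Function.Surjective π := Submodule.factor_surjective _
    exact le_idealDepth_middle ψ π hd hexact hψinj hπ h hc

end Groth.Agent.FibDepthLib
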