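import Groth.Agent.FibDepthLib.Fibre
import Groth.Agent.S18705
import Groth.Agent.LocFlat.Basic

/-! Four term sequences of flat modules and fibrewise depth. -/

set_option autoImplicit false
set_option backward.isDefEq.respectTransparency false
set_option backward.isDefEq.respectTransparency.types false
set_option linter.style.haveILetI false
set_option linter.unusedSectionVars false

universe u

open IsLocalRing TensorProduct

namespace Groth.Agent.FibDepthLib

section Gen

variable {A B : Type u} [CommRing A] [CommRing B] [Algebra A B]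
variable {N M P : Type u} [AddCommGroup N] [Module B N] [Module A N] [IsScalarTower A B N]
  [AddCommGroup M] [Module B M] [Module A M] [IsScalarTower A B M]
  [AddCommGroup P] [Module B P] [Module A P] [IsScalarTower A B P]

theorem exists_smul_mem_sm (I : Ideal A) (q : Ideal B) [q.IsPrime] (x : N)
    (hx : LocalizedModule.mkLinearMap q.primeCompl N x ∈ sm (B := B) I (LocalizedModule q.primeCompl N)) :
    ∃ s, s ∉ q ∧ s • x ∈ sm (B := B) I N := by
  let f := LocalizedModule.mkLinearMap q.primeCompl N
  have key : ∀ w ∈ sm (B := B) I (LocalizedModule q.primeCompl N),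
      ∃ s : q.primeCompl, ∃ y ∈ sm (B := B) I N, (s : B) • w = f y := by
    intro w hw
    refine Submodule.smul_induction_on hw (fun r hr v _ => ?_) fun u v hu hv => ?_
    · obtain ⟨⟨y, s⟩, hys⟩ := IsLocalizedModule.surj q.primeCompl f v
      refine ⟨s, r • y, Submodule.smul_mem_smul hr Submodule.mem_top, ?_⟩
      rw [map_smul, ← hys, Submonoid.smul_def, smul_comm]
    · obtain ⟨s, y, hy, hs⟩ := hu
      obtain ⟨t, z, hz, ht⟩ := hv
      refine ⟨s * t, (t : B) • y + (s : B) • z, add_mem (Submodule.smul_mem _ _ hy) (Submodule.smul_mem _ _ hz), ?_⟩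
      rw [map_add, map_smul, map_smul, ← hs, ← ht, Submonoid.coe_mul, smul_add, smul_smul, smul_smul, mul_comm (t : B)]
  obtain ⟨s, y, hy, hs⟩ := key _ hx
  rw [← map_smul] at hs
  obtain ⟨t, ht⟩ := IsLocalizedModule.exists_of_eq (S := q.primeCompl) hs
  refine ⟨t * s, fun h => (‹q.IsPrime›.mem_or_mem h).elim t.2 s.2, ?_⟩
  rw [mul_smul]
  show t • ((s : B) • x) ∈ _
  rw [ht]
  exact Submodule.smul_mem _ _ hy

theorem localized_exact (u : N →ₗ[B] M) (g : M →ₗ[B] P) (hu : Function.Injective u) (hug : Function.Exact u g)
    (hg : Function.Surjective g) (q : Ideal B) [q.IsPrime] :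
    Function.Injective (IsLocalizedModule.map q.primeCompl (LocalizedModule.mkLinearMap q.primeCompl N) (LocalizedModule.mkLinearMap q.primeCompl M) u) ∧
    Function.Exact (IsLocalizedModule.map q.primeCompl (LocalizedModule.mkLinearMap q.primeCompl N) (LocalizedModule.mkLinearMap q.primeCompl M) u)
      (IsLocalizedModule.map q.primeCompl (LocalizedModule.mkLinearMap q.primeCompl M) (LocalizedModule.mkLinearMap q.primeCompl P) g) ∧
    Function.Surjective (IsLocalizedModule.map q.primeCompl (LocalizedModule.mkLinearMap q.primeCompl M) (LocalizedModule.mkLinearMap q.primeCompl P) g) :=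
  ⟨IsLocalizedModule.map_injective _ _ _ _ hu,
    IsLocalizedModule.map_exact q.primeCompl (LocalizedModule.mkLinearMap q.primeCompl N)
      (LocalizedModule.mkLinearMap q.primeCompl M) (LocalizedModule.mkLinearMap q.primeCompl P) _ _ hug,
    IsLocalizedModule.map_surjective _ _ _ _ hg⟩

theorem flatAt_left (u : N →ₗ[B] M) (g : M →ₗ[B] P) (hu : Function.Injective u) (hug : Function.Exact u g)
    (hg : Function.Surjective g) (q : Ideal B) [q.IsPrime] (hM : Module.Flat A (LocalizedModule q.primeCompl M))
    (hP : Module.Flat A (LocalizedModule q.primeCompl P)) : Module.Flat A (LocalizedModule q.primeCompl N) := by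
  obtain ⟨h1, h2, h3⟩ := localized_exact u g hu hug hg q
  haveI := hM
  haveI := hP
  exact CAlgBasics.flat_ker_of_exact
    (f := (IsLocalizedModule.map q.primeCompl (LocalizedModule.mkLinearMap q.primeCompl N) (LocalizedModule.mkLinearMap q.primeCompl M) u).restrictScalars A)
    (g := (IsLocalizedModule.map q.primeCompl (LocalizedModule.mkLinearMap q.primeCompl M) (LocalizedModule.mkLinearMap q.primeCompl P) g).restrictScalars A)
    h1 h2 h3

theorem killed_of_flatAt (u : N →ₗ[B] M) (g : M →ₗ[B] P) (hu : Function.Injective u) (hug : Function.Exact u g)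
    (hg : Function.Surjective g) (q : Ideal B) [q.IsPrime] (hP : Module.Flat A (LocalizedModule q.primeCompl P))
    (I : Ideal A) (x : N) (hx : u x ∈ sm (B := B) I M) : ∃ s, s ∉ q ∧ s • x ∈ sm (B := B) I N := by
  obtain ⟨h1, h2, h3⟩ := localized_exact u g hu hug hg q
  haveI := hP
  refine exists_smul_mem_sm I q x (mem_of_map_mem
    (IsLocalizedModule.map q.primeCompl (LocalizedModule.mkLinearMap q.primeCompl N) (LocalizedModule.mkLinearMap q.primeCompl M) u)
    (IsLocalizedModule.map q.primeCompl (LocalizedModule.mkLinearMap q.primeCompl M) (LocalizedModule.mkLinearMap q.primeCompl P) g)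
    h1 h2 h3 I ?_)
  rw [IsLocalizedModule.map_apply]
  exact map_mem_sm I _ hx

theorem red_injective_of_depth [IsNoetherianRing B] [IsLocalRing A] [Module.Finite B N] {J : Ideal B}
    (u : N →ₗ[B] M) (g : M →ₗ[B] P) (hu : Function.Injective u) (hug : Function.Exact u g)
    (hg : Function.Surjective g)
    (hP : ∀ q : PrimeSpectrum B, ¬ J ≤ q.asIdeal → Module.Flat A (LocalizedModule q.asIdeal.primeCompl P))
    (h : 1 ≤ LocCoh.idealDepth J (EGA4.FibMod A B N)) : Function.Injective (red (maximalIdeal A) u) := by
  rw [injective_iff_map_eq_zero]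
  intro x hx
  obtain ⟨x, rfl⟩ := Submodule.Quotient.mk_surjective _ x
  rw [red_mk, Submodule.Quotient.mk_eq_zero] at hx
  refine eq_zero_of_killed_off (J := J) h _ fun q hq => ?_
  obtain ⟨s, hs, hsx⟩ := killed_of_flatAt u g hu hug hg q.asIdeal (hP q hq) _ x hx
  exact ⟨s, hs, by rw [← Submodule.Quotient.mk_smul, Submodule.Quotient.mk_eq_zero]; exact hsx⟩

theorem flat_coker_of_red_injective [IsNoetherianRing B] [IsLocalRing A] [IsLocalRing B]
    [IsLocalHom (algebraMap A B)] [Module.Finite B N] [Module.Flat A M]
    (u : N →ₗ[B] M) (g : M →ₗ[B] P) (hug : Function.Exact u g) (hg : Function.Surjective g)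
    (h : Function.Injective (red (maximalIdeal A) u)) : Module.Flat A P := by
  have h1 : Function.Injective ((u.restrictScalars A).lTensor (ResidueField A)) := by
    refine LocFlat.lTensor_residue_injective _ fun x hx => ?_
    rw [← mem_sm_iff (B := B)] at hx ⊢
    rw [← Submodule.Quotient.mk_eq_zero]
    refine h ?_
    rw [red_mk, map_zero, Submodule.Quotient.mk_eq_zero]
    exact hx
  haveI := (LocFlat.injective_and_flat_of_residue (S := B) (u.restrictScalars A) h1).2
  refine Module.Flat.of_linearEquiv (R := A) (M := M ⧸ LinearMap.range (u.restrictScalars A)) ?_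
  refine (Submodule.quotEquivOfEq _ (LinearMap.ker (g.restrictScalars A)) ?_).trans
    ((g.restrictScalars A).quotKerEquivOfSurjective hg) |>.symm
  ext y
  exact ⟨fun ⟨x, hx⟩ => by rw [← hx]; exact hug.apply_apply_eq_zero x, fun hy => (hug y).mp hy⟩

end Gen

section Main

variable {A B : Type u} [CommRing A] [CommRing B]
    [IsNoetherianRing A] [IsNoetherianRing B] [IsLocalRing A] [IsLocalRing B] [Algebra A B]
    [IsLocalHom (algebraMap A B)] {J : Ideal B}
    {F E0 E1 G : Type u} [AddCommGroup F] [Module B F] [Module A F] [IsScalarTower A B F] [Module.Finite B F]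
    [AddCommGroup E0] [Module B E0] [Module A E0] [IsScalarTower A B E0] [Module.Finite B E0] [Module.Flat A E0]
    [AddCommGroup E1] [Module B E1] [Module A E1] [IsScalarTower A B E1] [Module.Finite B E1] [Module.Flat A E1]
    [AddCommGroup G] [Module B G] [Module A G] [IsScalarTower A B G] [Module.Finite B G]
    (f : F →ₗ[B] E0) (u : E0 →ₗ[B] E1) (v : E1 →ₗ[B] G)
    (hf : Function.Injective f) (hfu : Function.Exact f u) (huv : Function.Exact u v) (hv : Function.Surjective v)

include hf hfu huv hv in
theorem flat_F_and_depth (hG : Module.Flat A G) (h0 : 2 ≤ LocCoh.idealDepth J (EGA4.FibMod A B E0))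
    (h1 : 1 ≤ LocCoh.idealDepth J (EGA4.FibMod A B E1)) :
    Module.Flat A F ∧ ∀ I : Ideal A, ∀ N₀, maximalIdeal A ^ N₀ ≤ I → 2 ≤ LocCoh.idealDepth J (F ⧸ sm (B := B) I F) := by
  have hp : Function.Exact f u.rangeRestrict := fun y => by
    rw [← Subtype.coe_inj]; exact hfu y
  have hι : Function.Exact (LinearMap.range u).subtype v := fun y => by
    rw [Submodule.coe_subtype, Subtype.range_coe]; exact huv y
  have hs : Function.Surjective u.rangeRestrict := u.surjective_rangeRestrict
  haveI := hG
  haveI hK : Module.Flat A (LinearMap.range u) := CAlgBasics.flat_ker_of_exact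
    (f := (LinearMap.range u).subtype.restrictScalars A) (g := v.restrictScalars A) Subtype.val_injective hι hv
  refine ⟨CAlgBasics.flat_ker_of_exact (f := f.restrictScalars A) (g := u.rangeRestrict.restrictScalars A) hf hp hs,
    fun I N₀ hI => ?_⟩
  have d0 := depth_infinitesimal (B := B) (M := E0) (J := J) (d := 2) (Or.inr rfl) h0 I N₀ hI
  have d1 := depth_infinitesimal (B := B) (M := E1) (J := J) (d := 1) (Or.inl rfl) (by exact_mod_cast h1) I N₀ hI
  have hcomp : Function.Exact (red I f) (red I u) := by
    have e : red I u = red I (LinearMap.range u).subtype ∘ₗ red I u.rangeRestrict :=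
      LinearMap.ext fun x => by obtain ⟨x, rfl⟩ := Submodule.Quotient.mk_surjective _ x; rfl
    rw [e]
    exact (red_injective _ v Subtype.val_injective hι hv I).comp_exact_iff_exact.mpr (red_exact f _ hp hs I)
  exact two_le_idealDepth_left (red I f) (red I u) hcomp (red_injective f _ hf hp hs I) (by exact_mod_cast d0)
    (by exact_mod_cast d1)

include hf hfu huv hv in
theorem flat_G_of_depth
    (hGU : ∀ q : PrimeSpectrum B, ¬ J ≤ q.asIdeal → FlatCA.FlatAt A q.asIdeal G)
    (h0 : 2 ≤ LocCoh.idealDepth J (EGA4.FibMod A B E0)) (h1 : 1 ≤ LocCoh.idealDepth J (EGA4.FibMod A B E1))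
    (hF : 2 ≤ LocCoh.idealDepth J (EGA4.FibMod A B F)) : Module.Flat A G := by
  have hp : Function.Exact f u.rangeRestrict := fun y => by
    rw [← Subtype.coe_inj]; exact hfu y
  have hι : Function.Exact (LinearMap.range u).subtype v := fun y => by
    rw [Submodule.coe_subtype, Subtype.range_coe]; exact huv y
  have hs : Function.Surjective u.rangeRestrict := u.surjective_rangeRestrict
  have hKU : ∀ q : PrimeSpectrum B, ¬ J ≤ q.asIdeal →
      Module.Flat A (LocalizedModule q.asIdeal.primeCompl (LinearMap.range u)) := fun q hq =>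
    flatAt_left _ v Subtype.val_injective hι hv q.asIdeal (QGorLib.flat_localizedModule E1 q.asIdeal) (hGU q hq)
  have hf0 := red_injective_of_depth f _ hf hp hs hKU (le_trans one_le_two hF)
  haveI hK : Module.Flat A (LinearMap.range u) := flat_coker_of_red_injective f _ hp hs hf0
  have hKd : 1 ≤ LocCoh.idealDepth J (EGA4.FibMod A B (LinearMap.range u)) :=
    one_le_idealDepth_coker (red (maximalIdeal A) f) (red (maximalIdeal A) u.rangeRestrict)
      (red_exact f _ hp hs _) hf0 (red_surjective _ hs _) hF (le_trans one_le_two h0)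
  exact flat_coker_of_red_injective (LinearMap.range u).subtype v hι hv
    (red_injective_of_depth _ v Subtype.val_injective hι hv hGU hKd)

end Main

end Groth.Agent.FibDepthLib
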