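import Groth.Agent.FibDepthLib.FourTerm
import Groth.Agent.LocZLib.DepthCrit
import Groth.Agent.LocCohLib.Annihilated

/-! Positivity of the depth of the cokernel from vanishing of `H²_J`. -/

set_option autoImplicit false
set_option backward.isDefEq.respectTransparency false
set_option backward.isDefEq.respectTransparency.types false
set_option linter.style.haveILetI false
set_option linter.unusedSectionVars false

universe u

open IsLocalRing CategoryTheory CategoryTheory.Limits

namespace Groth.Agent.FibDepthLib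

section

variable {B : Type u} [CommRing B] [IsNoetherianRing B] {J : Ideal B}

theorem natCast_le_idealDepth_iff_H {M : Type u} [AddCommGroup M] [Module B M] [Module.Finite B M] (n : ℕ) :
    (n : ℕ∞) ≤ LocCoh.idealDepth J M ↔ ∀ i, i < n → Subsingleton (LocCoh.H J i M) := by
  rw [QGorLib.le_idealDepth_iff_forall, LocZLib.forall_subsingleton_H_iff]

theorem isPowerTorsion_of_killed_off {M : Type u} [AddCommGroup M] [Module B M]
    (hM : ∀ x : M, ∀ q : PrimeSpectrum B, ¬ J ≤ q.asIdeal → ∃ s, s ∉ q.asIdeal ∧ s • x = 0) :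
    LocCoh.IsPowerTorsion J M := by
  intro x
  have h : J ≤ Ideal.radical (LinearMap.ker (LinearMap.toSpanSingleton B M x)) := by
    rw [Ideal.radical_eq_sInf]
    refine le_sInf fun q hq => ?_
    obtain ⟨hle, hqp⟩ := hq
    by_contra hJ
    obtain ⟨s, hs, hsx⟩ := hM x ⟨q, hqp⟩ hJ
    exact hs (hle hsx)
  obtain ⟨n, hn⟩ := Ideal.exists_pow_le_of_le_radical_of_fg h (IsNoetherian.noetherian J)
  exact ⟨n, fun a ha => hn ha⟩

theorem subsingleton_H_of_linearEquiv {M N : Type u} [AddCommGroup M] [Module B M] [AddCommGroup N]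
    [Module B N] (i : ℕ) (e : M ≃ₗ[B] N) (h : Subsingleton (LocCoh.H J i M)) : Subsingleton (LocCoh.H J i N) :=
  (((localCohomology J i).mapIso e.toModuleIso).toLinearEquiv).symm.toEquiv.subsingleton

variable {P a b c : Type u} [AddCommGroup P] [Module B P] [AddCommGroup a] [Module B a] [Module.Finite B a]
  [AddCommGroup b] [Module B b] [Module.Finite B b] [AddCommGroup c] [Module B c] [Module.Finite B c]

theorem one_le_idealDepth_coker_of_H_two (p : P →ₗ[B] a) (f : a →ₗ[B] b) (g : b →ₗ[B] c)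
    (hfp : ∀ x, f (p x) = 0) (hfg : Function.Exact f g) (hg : Function.Surjective g)
    (hk : ∀ x, p x = 0 → ∀ q : PrimeSpectrum B, ¬ J ≤ q.asIdeal → ∃ s, s ∉ q.asIdeal ∧ s • x = 0)
    (hc : ∀ x, f x = 0 → ∀ q : PrimeSpectrum B, ¬ J ≤ q.asIdeal → ∃ s, s ∉ q.asIdeal ∧ s • x ∈ LinearMap.range p)
    (ha : 2 ≤ LocCoh.idealDepth J a) (hb : 1 ≤ LocCoh.idealDepth J b)
    (hP : Subsingleton (LocCoh.H J 2 P)) : 1 ≤ LocCoh.idealDepth J c := by
  rw [← Nat.cast_ofNat, natCast_le_idealDepth_iff_H] at ha
  rw [← Nat.cast_one, natCast_le_idealDepth_iff_H] at hb ⊢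
  let K := LinearMap.ker f
  let p' : P →ₗ[B] K := p.codRestrict K hfp
  have h1 : LocCoh.IsPowerTorsion J (LinearMap.ker p') := isPowerTorsion_of_killed_off fun x q hq => by
    obtain ⟨s, hs, hsx⟩ := hk x.1 (congrArg Subtype.val x.2) q hq
    exact ⟨s, hs, Subtype.ext hsx⟩
  have h2 : LocCoh.IsPowerTorsion J (K ⧸ LinearMap.range p') := isPowerTorsion_of_killed_off fun x q hq => by
    obtain ⟨x, rfl⟩ := Submodule.Quotient.mk_surjective _ x
    obtain ⟨s, hs, y, hy⟩ := hc x.1 x.2 q hq
    exact ⟨s, hs, by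
      rw [← Submodule.Quotient.mk_smul, Submodule.Quotient.mk_eq_zero]
      exact ⟨y, Subtype.ext hy⟩⟩
  have hR : Subsingleton (LocCoh.H J 2 (LinearMap.range p')) :=
    subsingleton_H_of_linearEquiv 2 p'.quotKerEquivRange
      (LocCohLib.subsingleton_right J (LocCohLib.subSeq_shortExact P (LinearMap.ker p')) 2 hP
        (LocCohLib.subsingleton_of_torsion (ModuleCat.of B (LinearMap.ker p')) h1 2))
  have hK : Subsingleton (LocCoh.H J 2 K) :=
    LocCohLib.subsingleton_mid J (LocCohLib.subSeq_shortExact K (LinearMap.range p')) 2 hR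
      (LocCohLib.subsingleton_of_torsion (ModuleCat.of B (K ⧸ LinearMap.range p')) h2 1)
  have hI : Subsingleton (LocCoh.H J 1 (LinearMap.range f)) :=
    subsingleton_H_of_linearEquiv 1 f.quotKerEquivRange
      (LocCohLib.subsingleton_right J (LocCohLib.subSeq_shortExact a K) 1 (ha 1 one_lt_two) hK)
  intro i hi
  obtain rfl : i = 0 := by omega
  exact subsingleton_H_of_linearEquiv 0
    ((Submodule.quotEquivOfEq _ _ hfg.linearMap_ker_eq.symm).trans (g.quotKerEquivOfSurjective hg))
    (LocCohLib.subsingleton_right J (LocCohLib.subSeq_shortExact b (LinearMap.range f)) 0 (hb 0 one_pos) hI)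

end

section Main

variable {A B : Type u} [CommRing A] [CommRing B]
    [IsNoetherianRing A] [IsNoetherianRing B] [IsLocalRing A] [IsLocalRing B] [Algebra A B]
    [IsLocalHom (algebraMap A B)] {J : Ideal B}
    {F E0 E1 G : Type u} [AddCommGroup F] [Module B F] [Module A F] [IsScalarTower A B F] [Module.Finite B F]
    [AddCommGroup E0] [Module B E0] [Module A E0] [IsScalarTower A B E0] [Module.Finite B E0] [Module.Flat A E0]
    [AddCommGroup E1] [Module B E1] [Module A E1] [IsScalarTower A B E1] [Module.Finite B E1] [Module.Flat A E1]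
    [AddCommGroup G] [Module B G] [Module A G] [IsScalarTower A B G] [Module.Finite B G]
    (f : F →ₗ[B] E0) (u : E0 →ₗ[B] E1) (v : E1 →ₗ[B] G)
    (hf : Function.Injective f) (hfu : Function.Exact f u) (huv : Function.Exact u v) (hv : Function.Surjective v)

include hf hfu huv hv in
theorem one_le_depth_fib_G_of_H_two
    (hGU : ∀ q : PrimeSpectrum B, ¬ J ≤ q.asIdeal → FlatCA.FlatAt A q.asIdeal G)
    (h0 : 2 ≤ LocCoh.idealDepth J (EGA4.FibMod A B E0)) (h1 : 1 ≤ LocCoh.idealDepth J (EGA4.FibMod A B E1))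
    (hH2 : Subsingleton (LocCoh.H J 2 (EGA4.FibMod A B F))) : 1 ≤ LocCoh.idealDepth J (EGA4.FibMod A B G) := by
  have hp : Function.Exact f u.rangeRestrict := fun y => by
    rw [← Subtype.coe_inj]; exact hfu y
  have hι : Function.Exact (LinearMap.range u).subtype v := fun y => by
    rw [Submodule.coe_subtype, Subtype.range_coe]; exact huv y
  have hs : Function.Surjective u.rangeRestrict := u.surjective_rangeRestrict
  have hKU : ∀ q : PrimeSpectrum B, ¬ J ≤ q.asIdeal →
      Module.Flat A (LocalizedModule q.asIdeal.primeCompl (LinearMap.range u)) := fun q hq =>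
    flatAt_left _ v Subtype.val_injective hι hv q.asIdeal (QGorLib.flat_localizedModule E1 q.asIdeal) (hGU q hq)
  refine one_le_idealDepth_coker_of_H_two (red (maximalIdeal A) f) (red (maximalIdeal A) u) (red (maximalIdeal A) v)
    (fun x => ?_) (red_exact u v huv hv _) (red_surjective v hv _) (fun x hx q hq => ?_) (fun x hx q hq => ?_) h0 h1 hH2
  · obtain ⟨x, rfl⟩ := Submodule.Quotient.mk_surjective _ x
    rw [red_mk, red_mk, hfu.apply_apply_eq_zero, Submodule.Quotient.mk_zero]
  · obtain ⟨x, rfl⟩ := Submodule.Quotient.mk_surjective _ x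
    rw [red_mk, Submodule.Quotient.mk_eq_zero] at hx
    obtain ⟨s, hs', hsx⟩ := killed_of_flatAt f _ hf hp hs q.asIdeal (hKU q hq) _ x hx
    exact ⟨s, hs', by rw [← Submodule.Quotient.mk_smul, Submodule.Quotient.mk_eq_zero]; exact hsx⟩
  · obtain ⟨x, rfl⟩ := Submodule.Quotient.mk_surjective _ x
    rw [red_mk, Submodule.Quotient.mk_eq_zero] at hx
    obtain ⟨s, hs', hsx⟩ := killed_of_flatAt (LinearMap.range u).subtype v Subtype.val_injective hι hv q.asIdeal
      (hGU q hq) _ (u.rangeRestrict x) hx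
    refine ⟨s, hs', (red_exact f _ hp hs (maximalIdeal A) _).mp ?_⟩
    rw [← Submodule.Quotient.mk_smul, red_mk, Submodule.Quotient.mk_eq_zero, map_smul]
    exact hsx

end Main

end Groth.Agent.FibDepthLib
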