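import Groth.Agent.FibDepthLib.BaseChange
import Groth.Agent.S18707
import Groth.Agent.S18722

/-! Kernels of maps of projective modules with locally free cokernel off a closed set. -/

set_option autoImplicit false
set_option backward.isDefEq.respectTransparency false
set_option backward.isDefEq.respectTransparency.types false
set_option linter.style.haveILetI false
set_option linter.unusedSectionVars false

universe u

open IsLocalRing TensorProduct

namespace Groth.Agent.FibDepthLib

variable {A B : Type u} [CommRing A] [CommRing B] [IsNoetherianRing A] [IsNoetherianRing B] [Algebra A B] [Module.Flat A B]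
    (J : Ideal B)
    {F E0 E1 G : Type u} [AddCommGroup F] [Module B F] [Module A F] [IsScalarTower A B F] [Module.Finite B F]
    [AddCommGroup E0] [Module B E0] [Module A E0] [IsScalarTower A B E0] [Module.Finite B E0] [Module.Projective B E0]
    [AddCommGroup E1] [Module B E1] [Module A E1] [IsScalarTower A B E1] [Module.Finite B E1] [Module.Projective B E1]
    [AddCommGroup G] [Module B G] [Module A G] [IsScalarTower A B G] [Module.Finite B G]
    (f : F →ₗ[B] E0) (u : E0 →ₗ[B] E1) (v : E1 →ₗ[B] G)
    (hf : Function.Injective f) (hfu : Function.Exact f u) (huv : Function.Exact u v) (hv : Function.Surjective v)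

theorem free_of_flatAt_self {X : Type u} [AddCommGroup X] [Module B X] [Module.Finite B X] (q : PrimeSpectrum B)
    (h : FlatCA.FlatAt B q.asIdeal X) :
    Module.Free (Localization.AtPrime q.asIdeal) (LocalizedModule q.asIdeal.primeCompl X) := by
  let S := Localization.AtPrime q.asIdeal
  haveI : Module.Finite S (LocalizedModule q.asIdeal.primeCompl X) :=
    Module.Finite.of_isLocalizedModule q.asIdeal.primeCompl (LocalizedModule.mkLinearMap q.asIdeal.primeCompl X)
  haveI : Module.Flat S (LocalizedModule q.asIdeal.primeCompl X) :=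
    (Module.flat_iff_of_isLocalization S q.asIdeal.primeCompl _).mpr h
  exact Module.free_of_flat_of_isLocalRing

theorem flatAt_self_of_free {X : Type u} [AddCommGroup X] [Module B X] (q : PrimeSpectrum B)
    (h : Module.Free (Localization.AtPrime q.asIdeal) (LocalizedModule q.asIdeal.primeCompl X)) :
    FlatCA.FlatAt B q.asIdeal X :=
  (Module.flat_iff_of_isLocalization (Localization.AtPrime q.asIdeal) q.asIdeal.primeCompl _).mp inferInstance

theorem flatAt_of_flatAt_self {X : Type u} [AddCommGroup X] [Module B X] [Module A X] [IsScalarTower A B X]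
    (q : PrimeSpectrum B) (h : FlatCA.FlatAt B q.asIdeal X) : FlatCA.FlatAt A q.asIdeal X := by
  haveI : Module.Flat B (LocalizedModule q.asIdeal.primeCompl X) := h
  exact Module.Flat.trans A B (LocalizedModule q.asIdeal.primeCompl X)

include hf hfu huv hv in
theorem reflexive_and_flat_iff
    (hZ : ∀ q : PrimeSpectrum B, (2 : ℕ∞) ≤ LocCoh.idealDepth (J.map (algebraMap B (EGA4.FibLocRing A B q.asIdeal)))
      (EGA4.FibLocRing A B q.asIdeal))
    (hGU : ∀ q : PrimeSpectrum B, ¬ J ≤ q.asIdeal → Module.Free (Localization.AtPrime q.asIdeal) (LocalizedModule q.asIdeal.primeCompl G)) :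
    Module.IsReflexive B F ∧ 2 ≤ LocCoh.idealDepth J F ∧
    ((∀ q : PrimeSpectrum B, FlatCA.FlatAt A q.asIdeal F ∧
        2 ≤ LocCoh.idealDepth (J.map (algebraMap B (EGA4.FibLocRing A B q.asIdeal))) (EGA4.FibLocMod A B q.asIdeal F)) ↔
      Module.Flat A G) := by
  haveI : Module.Flat A E0 := Module.Flat.trans A B E0
  haveI : Module.Flat A E1 := Module.Flat.trans A B E1
  have hJm : ∀ q : PrimeSpectrum B, J ≤ q.asIdeal →
      J.map (algebraMap B (EGA4.FibLocRing A B q.asIdeal)) ≤ q.asIdeal.map (algebraMap B (EGA4.FibLocRing A B q.asIdeal)) :=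
    fun q hq => Ideal.map_mono hq
  have hfin : ∀ (q : PrimeSpectrum B) (X : Type u) [AddCommGroup X] [Module B X] [Module.Finite B X],
      Module.Finite (EGA4.FibLocRing A B q.asIdeal) (EGA4.FibLocMod A B q.asIdeal X) := fun q X _ _ _ => by
    haveI : Module.Finite (Localization.AtPrime q.asIdeal) (LocalizedModule q.asIdeal.primeCompl X) :=
      Module.Finite.of_isLocalizedModule q.asIdeal.primeCompl (LocalizedModule.mkLinearMap q.asIdeal.primeCompl X)
    exact Module.Finite.of_restrictScalars_finite (Localization.AtPrime q.asIdeal) _ _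
  have hE : ∀ (q : PrimeSpectrum B) (X : Type u) [AddCommGroup X] [Module B X] [Module.Finite B X] [Module.Projective B X],
      (2 : ℕ∞) ≤ LocCoh.idealDepth (J.map (algebraMap B (EGA4.FibLocRing A B q.asIdeal))) (EGA4.FibLocMod A B q.asIdeal X) :=
    fun q X _ _ _ _ => le_idealDepth_fibLocMod_of_projective q _ X 2 (hZ q)
  have h0 : ∀ q : PrimeSpectrum B, J ≤ q.asIdeal →
      2 ≤ LocCoh.idealDepth (q.asIdeal.map (algebraMap B (EGA4.FibLocRing A B q.asIdeal))) (EGA4.FibLocMod A B q.asIdeal E0) :=
    fun q hq => by
      haveI := hfin q E0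
      exact le_idealDepth_mono (hJm q hq) 2 (hE q E0)
  have h1 : ∀ q : PrimeSpectrum B, J ≤ q.asIdeal →
      1 ≤ LocCoh.idealDepth (q.asIdeal.map (algebraMap B (EGA4.FibLocRing A B q.asIdeal))) (EGA4.FibLocMod A B q.asIdeal E1) :=
    fun q hq => by
      haveI := hfin q E1
      exact le_trans one_le_two (le_idealDepth_mono (hJm q hq) 2 (hE q E1))
  have hGflat : ∀ q : PrimeSpectrum B, ¬ J ≤ q.asIdeal → FlatCA.FlatAt A q.asIdeal G := fun q hq =>
    flatAt_of_flatAt_self q (flatAt_self_of_free q (hGU q hq))
  have hd : 2 ≤ LocCoh.idealDepth J F :=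
    Groth.Agent.S18707.result A B J F E0 E1 G f u v hf hfu huv hv hGflat h0 h1
  have hFU : ∀ q : PrimeSpectrum B, ¬ J ≤ q.asIdeal →
      Module.IsReflexive (Localization.AtPrime q.asIdeal) (LocalizedModule q.asIdeal.primeCompl F) := fun q hq => by
    haveI := free_of_flatAt_self q (flatAt_F_of_flatAt_G (A := B) f u v hf hfu huv hv q.asIdeal (flatAt_self_of_free q (hGU q hq)))
    haveI : Module.Finite (Localization.AtPrime q.asIdeal) (LocalizedModule q.asIdeal.primeCompl F) :=
      Module.Finite.of_isLocalizedModule q.asIdeal.primeCompl (LocalizedModule.mkLinearMap q.asIdeal.primeCompl F)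
    infer_instance
  have hR : Module.IsReflexive B F :=
    (Groth.Agent.S18722.result A B J (fun q hq => by
      refine le_trans one_le_two ?_
      exact le_idealDepth_mono (hJm q hq) 2 (hZ q)) F).1 hFU hd
  refine ⟨hR, hd, fun hK => ?_, fun hG q => ?_⟩
  · have key : ∀ (k : ℕ∞) (q : PrimeSpectrum B), q.asIdeal.height = k → FlatCA.FlatAt A q.asIdeal G := by
      intro k
      induction k using WellFoundedLT.induction with
      | _ k ih =>
        intro q hk
        by_cases hJ : J ≤ q.asIdeal
        · haveI := hfin q F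
          exact (atPrimeGen f u v hf hfu huv hv q ⊤).2 (h0 q hJ) (h1 q hJ) (le_idealDepth_mono (hJm q hJ) 2 (hK q).2)
            fun q' hq' => ih _ (hk ▸ Ideal.height_strict_mono_of_isPrime hq') q' rfl
        · exact hGflat q hJ
    exact Module.flat_of_isLocalized_maximal B G (fun P _ => LocalizedModule P.primeCompl G)
      (fun P _ => LocalizedModule.mkLinearMap P.primeCompl G) fun P hP => key _ ⟨P, hP.isPrime⟩ rfl
  · have hq : FlatCA.FlatAt A q.asIdeal G := QGorLib.flat_localizedModule G q.asIdeal
    exact ⟨flatAt_F_of_flatAt_G f u v hf hfu huv hv q.asIdeal hq,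
      (atPrimeGen f u v hf hfu huv hv q _).1 (hE q E0) (le_trans one_le_two (hE q E1)) hq⟩

end Groth.Agent.FibDepthLib
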